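import Cfsg.Agent.Helper19.TCR.StaticDefs

/-! Reflective Todd-Coxeter certificate checker with abelian labels ("modified Todd-Coxeter"),
definitions only (no Mathlib import).

Every directed edge `(i, l)` of a finished coset table carries a packed entry
`target + md * (cert + mc * (rank + mr * plab))`, where `plab` is a packed label: `k` digits in base
`M`, each digit being a biased integer `v + B`.  The fact attached to the edge is
`g_l * rep i = rep target * sem (label)`, where `sem` takes values in a commutative group mapped to
the ambient group.  Relators are only assumed to have *central* values. -/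

set_option autoImplicit false
set_option linter.all false

namespace Cfsg.Agent.Helper19.TCL

open Cfsg.Agent.Helper19.TCS

section comp

variable (N nc md mc mr md2 mdc mdcr : Nat) (kk M Mb BA : Nat)
  (inv : Nat → Nat) (ent : Nat → Nat → Nat) (par plet : Nat → Nat)

/-- walk along `w` from `f` using edges of rank `< t`, accumulating packed labels; result
`(f' + 1) + md2 * acc`, or `0` on failure. -/
noncomputable def walkL (t : Nat) (w : List Nat) : Nat → Nat → Nat :=
  List.rec (motive := fun _ => Nat → Nat → Nat) (fun f acc => Nat.add (Nat.succ f) (Nat.mul md2 acc))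
    (fun x _ ih f acc => force (ent f x) (fun e =>
      bIf (Nat.blt (Nat.mod (Nat.div e mdc) mr) t)
        (ih (Nat.mod e md) (Nat.add acc (Nat.div e mdcr))) 0)) w

theorem walkL_nil (t f acc : Nat) : walkL md mr md2 mdc mdcr ent t [] f acc = (f + 1) + md2 * acc := rfl

theorem walkL_cons (t x : Nat) (w : List Nat) (f acc : Nat) :
    walkL md mr md2 mdc mdcr ent t (x :: w) f acc =
      bIf (Nat.blt (Nat.mod (Nat.div (ent f x) mdc) mr) t)
        (walkL md mr md2 mdc mdcr ent t w (Nat.mod (ent f x) md)
          (Nat.add acc (Nat.div (ent f x) mdcr))) 0 := by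
  exact force_eq (ent f x) (fun e =>
      bIf (Nat.blt (Nat.mod (Nat.div e mdc) mr) t)
        (walkL md mr md2 mdc mdcr ent t w (Nat.mod e md) (Nat.add acc (Nat.div e mdcr))) 0)

/-- all `k` base-`M` digits of `P` are `< Mb`, and `P < M ^ k`. -/
noncomputable def fldOK (k : Nat) : Nat → Bool :=
  Nat.rec (motive := fun _ => Nat → Bool) (fun P => Nat.beq P 0)
    (fun _ ih P => bIf (Nat.blt (Nat.mod P M) Mb) (ih (Nat.div P M)) false) k

theorem fldOK_zero (P : Nat) : fldOK M Mb 0 P = Nat.beq P 0 := rfl
theorem fldOK_succ (k P : Nat) :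
    fldOK M Mb (k + 1) P = bIf (Nat.blt (Nat.mod P M) Mb) (fldOK M Mb k (Nat.div P M)) false := rfl

/-- tree edge check. -/
noncomputable def treeChkL (i l j pl : Nat) : Bool :=
  bIf (Nat.blt i j) (bIf (Nat.beq (par j) i) (bIf (Nat.beq (plet j) l) (Nat.beq pl BA) false) false) false

/-- inverse edge check. -/
noncomputable def invChkL (i l j t pl : Nat) : Bool :=
  force (ent j (inv l)) (fun e =>
    bIf (Nat.beq (Nat.mod e md) i)
      (bIf (Nat.blt (Nat.mod (Nat.div e mdc) mr) t)
        (Nat.beq (Nat.add (Nat.div e mdcr) pl) (Nat.add BA BA)) false) false)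

/-- relator check: `p = (init, l', expected)`. -/
noncomputable def relChkL (i l j t pl : Nat) (p : List Nat × Nat × Nat) : Bool :=
  bIf (Nat.beq p.2.1 l)
    (force (walkL md mr md2 mdc mdcr ent t p.1 j 0) (fun res =>
      bIf (Nat.beq (Nat.mod res md2) (Nat.succ i))
        (Nat.beq (Nat.add (Nat.div res md2) pl) p.2.2) false)) false

/-- subgroup word check: `p = (pre, l', post, expected)`. -/
noncomputable def subChkL (i l j t pl : Nat) (p : List Nat × Nat × List Nat × Nat) : Bool :=
  bIf (Nat.beq p.2.1 l)
    (force (walkL md mr md2 mdc mdcr ent t p.1 0 0) (fun res1 =>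
      bIf (Nat.beq (Nat.mod res1 md2) (Nat.succ i))
        (force (walkL md mr md2 mdc mdcr ent t p.2.2.1 j 0) (fun res2 =>
          bIf (Nat.beq (Nat.mod res2 md2) 1)
            (Nat.beq (Nat.add (Nat.add (Nat.div res1 md2) (Nat.div res2 md2)) pl) p.2.2.2) false))
        false)) false

variable (nrots : Nat) (rots : Nat → List Nat × Nat × Nat)
  (subsC : Nat → List Nat × Nat × List Nat × Nat)

/-- certificate dispatch. -/
noncomputable def certChkL (i l j c t pl : Nat) : Bool :=
  Nat.rec (motive := fun _ => Bool) (treeChkL BA par plet i l j pl)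
    (fun c1 _ => Nat.rec (motive := fun _ => Bool) (invChkL md mr mdc mdcr BA inv ent i l j t pl)
      (fun c2 _ => bIf (Nat.blt c2 nrots) (relChkL md mr md2 mdc mdcr ent i l j t pl (rots c2))
        (subChkL md mr md2 mdc mdcr ent i l j t pl (subsC (Nat.sub c2 nrots)))) c1) c

/-- the check of one directed edge. -/
noncomputable def okEdgeL (i l : Nat) : Bool :=
  force (ent i l) (fun e => force (Nat.mod e md) (fun j =>
    bIf (Nat.blt j N)
      (force (Nat.div e mdcr) (fun pl =>
        bIf (fldOK M Mb kk pl)
          (certChkL md mr md2 mdc mdcr BA inv ent par plet nrots rots subsC i l j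
            (Nat.mod (Nat.div e md) mc) (Nat.mod (Nat.div e mdc) mr) pl) false)) false))

/-- all letters `< n` at coset `i`. -/
noncomputable def okRowL (i : Nat) (n : Nat) : Bool :=
  Nat.rec (motive := fun _ => Bool) true
    (fun l ih => bIf (okEdgeL N md mc mr md2 mdc mdcr kk M Mb BA inv ent par plet nrots rots subsC i l)
      ih false) n

/-- rows `lo, …, lo + n - 1` (rows `≥ N` are skipped). -/
noncomputable def okRowsL (lo n : Nat) : Bool :=
  Nat.rec (motive := fun _ => Bool) true
    (fun k ih => force (Nat.add lo k) (fun i =>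
      bIf (bIf (Nat.blt i N)
        (okRowL N md mc mr md2 mdc mdcr kk M Mb BA inv ent par plet nrots rots subsC i nc) true)
        ih false)) n

/-- a full walk around a word from `b` using all edges returns to `b` with accumulated label
`expected`. -/
noncomputable def faceChk (w : List Nat) (b expected : Nat) : Bool :=
  Nat.beq (walkL md mr md2 mdc mdcr ent mr w b 0) (Nat.add (Nat.succ b) (Nat.mul md2 expected))

end comp

end Cfsg.Agent.Helper19.TCL
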