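/-! Reflective Todd-Coxeter certificate checker, static ("ranked") version: definitions only
(no Mathlib import, so that the data and check files load fast).

Every directed edge `(i, l)` of a finished coset table carries a packed entry
`target + md * (cert + mc * rank)`.  The certificate says why `g_l • nd i = nd target` holds, using
only edges of smaller rank:
* `cert = 0`: tree edge (`target` has parent `i` and letter `l`);
* `cert = 1`: inverse of the edge `(target, inv l)`;
* `cert = 2 + r`, `r < nrots`: the relator `init ++ [l]` (`(init, l) = rots r`), walked from `target`;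
* `cert = 2 + nrots + s`: the subgroup word `pre ++ [l] ++ post` (`subsC s`), `pre` walked from `0`
  and `post` from `target` back to `0`.
All functions are written with raw recursors so that the kernel evaluates them quickly, and they are
stateless, so the check can be split over many theorems. -/

set_option autoImplicit false
set_option linter.all false

namespace Cfsg.Agent.Helper19.TCS

/-- evaluation forcing for kernel reduction. -/
noncomputable def force {α : Type} (k : Nat) (f : Nat → α) : α :=
  Nat.rec (motive := fun _ => α) (f 0) (fun n _ => f (Nat.succ n)) k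

@[simp] theorem force_eq {α : Type} (k : Nat) (f : Nat → α) : force k f = f k := by
  cases k <;> rfl

/-- `if b then x else y` by the raw recursor. -/
noncomputable def bIf {α : Type} (b : Bool) (x y : α) : α := Bool.rec (motive := fun _ => α) y x b

@[simp] theorem bIf_true {α : Type} (x y : α) : bIf true x y = x := rfl
@[simp] theorem bIf_false {α : Type} (x y : α) : bIf false x y = y := rfl

/-- 4-ary trie indexed by base-4 digits, least significant first. -/
inductive Tr (α : Type) : Type
  | lf (v : α) : Tr α
  | nd (a b c d : Tr α) : Tr α

noncomputable def Tr.get {α : Type} (t : Tr α) : Nat → α :=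
  Tr.rec (motive := fun _ => Nat → α) (fun v _ => v)
    (fun _ _ _ _ ia ib ic id q =>
      Nat.rec (motive := fun _ => α) (ia (Nat.div q 4))
        (fun n _ => Nat.rec (motive := fun _ => α) (ib (Nat.div q 4))
          (fun n _ => Nat.rec (motive := fun _ => α) (ic (Nat.div q 4))
            (fun _ _ => id (Nat.div q 4)) n) n)
        (Nat.mod q 4)) t

section comp

variable (N nc md mc mdc : Nat) (inv : Nat → Nat) (ent : Nat → Nat → Nat) (par plet : Nat → Nat)

/-- walk along `w` from `f` using edges of rank `< t`; result `f' + 1`, or `0` on failure. -/
noncomputable def walkR (t : Nat) (w : List Nat) : Nat → Nat :=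
  List.rec (motive := fun _ => Nat → Nat) (fun f => Nat.succ f)
    (fun x _ ih f => force (ent f x) (fun e =>
      bIf (Nat.blt (Nat.div e mdc) t) (ih (Nat.mod e md)) 0)) w

theorem walkR_nil (t f : Nat) : walkR md mdc ent t [] f = f + 1 := rfl

theorem walkR_cons (t x : Nat) (w : List Nat) (f : Nat) :
    walkR md mdc ent t (x :: w) f =
      bIf (Nat.blt (Nat.div (ent f x) mdc) t) (walkR md mdc ent t w (Nat.mod (ent f x) md)) 0 := by
  exact force_eq (ent f x) (fun e =>
    bIf (Nat.blt (Nat.div e mdc) t) (walkR md mdc ent t w (Nat.mod e md)) 0)

/-- tree edge check. -/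
noncomputable def treeChk (i l j : Nat) : Bool :=
  bIf (Nat.blt i j) (bIf (Nat.beq (par j) i) (Nat.beq (plet j) l) false) false

/-- inverse edge check. -/
noncomputable def invChk (i l j t : Nat) : Bool :=
  force (ent j (inv l)) (fun e =>
    bIf (Nat.beq (Nat.mod e md) i) (Nat.blt (Nat.div e mdc) t) false)

/-- relator check. -/
noncomputable def relChk (i l j t : Nat) (p : List Nat × Nat) : Bool :=
  Prod.rec (motive := fun _ => Bool)
    (fun init l' => bIf (Nat.beq l' l) (Nat.beq (walkR md mdc ent t init j) (Nat.succ i)) false) p

/-- subgroup word check. -/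
noncomputable def subChk (i l j t : Nat) (p : List Nat × Nat × List Nat) : Bool :=
  bIf (Nat.beq p.2.1 l)
    (bIf (Nat.beq (walkR md mdc ent t p.1 0) (Nat.succ i))
      (Nat.beq (walkR md mdc ent t p.2.2 j) 1) false) false

variable (nrots : Nat) (rots : Nat → List Nat × Nat) (subsC : Nat → List Nat × Nat × List Nat)

/-- certificate dispatch. -/
noncomputable def certChk (i l j c t : Nat) : Bool :=
  Nat.rec (motive := fun _ => Bool) (treeChk par plet i l j)
    (fun c1 _ => Nat.rec (motive := fun _ => Bool) (invChk md mdc inv ent i l j t)
      (fun c2 _ => bIf (Nat.blt c2 nrots) (relChk md mdc ent i l j t (rots c2))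
        (subChk md mdc ent i l j t (subsC (Nat.sub c2 nrots)))) c1) c

/-- the check of one directed edge. -/
noncomputable def okEdge (i l : Nat) : Bool :=
  force (ent i l) (fun e => force (Nat.mod e md) (fun j =>
    bIf (Nat.blt j N)
      (certChk md mdc inv ent par plet nrots rots subsC i l j (Nat.mod (Nat.div e md) mc)
        (Nat.div e mdc)) false))

/-- all letters `< n` at coset `i`. -/
noncomputable def okRow (i : Nat) (n : Nat) : Bool :=
  Nat.rec (motive := fun _ => Bool) true
    (fun l ih => bIf (okEdge N md mc mdc inv ent par plet nrots rots subsC i l) ih false) n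

/-- rows `lo, …, lo + n - 1` (rows `≥ N` are skipped). -/
noncomputable def okRows (lo n : Nat) : Bool :=
  Nat.rec (motive := fun _ => Bool) true
    (fun k ih => force (Nat.add lo k) (fun i =>
      bIf (bIf (Nat.blt i N) (okRow N md mc mdc inv ent par plet nrots rots subsC i nc) true)
        ih false)) n

/-- parents are smaller: rows `lo, …, lo + n - 1`. -/
noncomputable def okTree (lo n : Nat) : Bool :=
  Nat.rec (motive := fun _ => Bool) true
    (fun k ih => force (Nat.add lo k) (fun j =>
      bIf (bIf (Nat.blt j N) (bIf (Nat.blt 0 j) (Nat.blt (par j) j) true) true) ih false)) n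

end comp


end Cfsg.Agent.Helper19.TCS
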