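import Mathlib
import Cfsg.Agent.Helper17.TCGeneric
import Cfsg.Agent.Helper19.TCR.StaticDefs

/-! Soundness of the static Todd-Coxeter certificate checker of `StaticDefs`. -/

set_option autoImplicit false
set_option linter.all false

namespace Cfsg.Agent.Helper19.TCS

theorem bIf_eq_true {b c : Bool} : bIf b c false = true ↔ b = true ∧ c = true := by
  cases b <;> simp

section sem

variable {N nc md mc mdc : ℕ} {inv : ℕ → ℕ} {ent : ℕ → ℕ → ℕ} {par plet : ℕ → ℕ}
  {nrots : ℕ} {rots : ℕ → List ℕ × ℕ} {subsC : ℕ → List ℕ × ℕ × List ℕ}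
  {G : Type*} [Group G] (H : Subgroup G) (gc : ℕ → G)

def prodw : List ℕ → G
  | [] => 1
  | l :: w => prodw w * gc l

theorem prodw_append (u v : List ℕ) : prodw gc (u ++ v) = prodw gc v * prodw gc u := by
  induction u with
  | nil => simp [prodw]
  | cons l u ih => simp [prodw, ih, mul_assoc]

/-- coset representative along the tree (with fuel). -/
def rep (par plet : ℕ → ℕ) : ℕ → ℕ → G
  | 0, _ => 1
  | n + 1, i => if i = 0 then 1 else gc (plet i) * rep par plet n (par i)

def nd (par plet : ℕ → ℕ) (i : ℕ) : G ⧸ H := ((rep gc par plet i i : G) : G ⧸ H)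

theorem rep_fuel (hT : ∀ j, 0 < j → j < N → par j < j) :
    ∀ i, i < N → ∀ n, i ≤ n → rep gc par plet n i = rep gc par plet i i := by
  intro i
  induction i using Nat.strong_induction_on with
  | _ i ih =>
    intro hi n hn
    rcases Nat.eq_zero_or_pos i with rfl | h0
    · cases n <;> simp [rep]
    · have hp := hT i h0 hi
      obtain ⟨n', rfl⟩ : ∃ n', n = n' + 1 := ⟨n - 1, by omega⟩
      obtain ⟨i', rfl⟩ : ∃ i', i = i' + 1 := ⟨i - 1, by omega⟩
      have hne : i' + 1 ≠ 0 := by omega
      simp only [rep, if_neg hne]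
      rw [ih _ hp (by omega) n' (by omega), ih _ hp (by omega) i' (by omega)]

theorem nd_zero : nd H gc par plet 0 = ((1 : G) : G ⧸ H) := by
  simp [nd, rep]

theorem nd_step (hT : ∀ j, 0 < j → j < N → par j < j) {i : ℕ} (h0 : 0 < i) (hi : i < N) :
    nd H gc par plet i = gc (plet i) • nd H gc par plet (par i) := by
  have hp := hT i h0 hi
  obtain ⟨i', rfl⟩ : ∃ i', i = i' + 1 := ⟨i - 1, by omega⟩
  have hne : i' + 1 ≠ 0 := by omega
  unfold nd
  rw [MulAction.Quotient.smul_mk, smul_eq_mul]
  congr 1
  simp only [rep, if_neg hne]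
  rw [rep_fuel gc hT _ (by omega) i' (by omega)]

/-- the fact certified for the directed edge `(i, l)`. -/
def Fact (md : ℕ) (ent : ℕ → ℕ → ℕ) (par plet : ℕ → ℕ) (N : ℕ) (i l : ℕ) : Prop :=
  Nat.mod (ent i l) md < N ∧
    gc l • nd H gc par plet i = nd H gc par plet (Nat.mod (ent i l) md)

variable {H gc}

theorem walkR_spec {t : ℕ}
    (IH : ∀ i l, i < N → l < nc → Nat.div (ent i l) mdc < t → Fact H gc md ent par plet N i l) :
    ∀ (w : List ℕ) (f f' : ℕ), f < N → (∀ x ∈ w, x < nc) → walkR md mdc ent t w f = f' + 1 →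
      f' < N ∧ prodw gc w • nd H gc par plet f = nd H gc par plet f' := by
  intro w
  induction w with
  | nil =>
    intro f f' hf _ h
    rw [walkR_nil] at h
    have : f = f' := by omega
    subst this
    exact ⟨hf, by simp [prodw]⟩
  | cons x w ih =>
    intro f f' hf hw h
    rw [walkR_cons] at h
    have hx : x < nc := hw x (List.mem_cons_self ..)
    cases hb : Nat.blt (Nat.div (ent f x) mdc) t with
    | false => rw [hb, bIf_false] at h; omega
    | true =>
      rw [hb, bIf_true] at h
      have hlt : Nat.div (ent f x) mdc < t := by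
        have := hb
        simp only [Nat.blt_eq] at this
        exact this
      obtain ⟨h1, h2⟩ := IH f x hf hx hlt
      obtain ⟨h3, h4⟩ := ih _ f' h1 (fun y hy => hw y (List.mem_cons_of_mem _ hy)) h
      exact ⟨h3, by rw [prodw, mul_smul, h2, h4]⟩

/-- hypotheses linking the data to the group. -/
structure Sem (N nc : ℕ) (inv : ℕ → ℕ) (nrots : ℕ) (rots : ℕ → List ℕ × ℕ)
    (subsC : ℕ → List ℕ × ℕ × List ℕ) (H : Subgroup G) (gc : ℕ → G) : Prop where
  inv_lt : ∀ l, l < nc → inv l < nc
  gc_inv : ∀ l, l < nc → gc (inv l) = (gc l)⁻¹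
  rots_lt : ∀ r, r < nrots → ∀ x ∈ (rots r).1, x < nc
  rots_one : ∀ r, r < nrots → prodw gc ((rots r).1 ++ [(rots r).2]) = 1
  subs_lt : ∀ s, (subsC s).2.1 < nc →
    (∀ x ∈ (subsC s).1, x < nc) ∧ (∀ x ∈ (subsC s).2.2, x < nc)
  subs_mem : ∀ s, (subsC s).2.1 < nc →
    prodw gc ((subsC s).1 ++ (subsC s).2.1 :: (subsC s).2.2) ∈ H
  N_pos : 0 < N

theorem smul_nd_zero_of_mem {g : G} (hg : g ∈ H) :
    g • nd H gc par plet 0 = nd H gc par plet 0 := by
  rw [nd_zero, MulAction.Quotient.smul_mk, QuotientGroup.eq]
  simpa using H.inv_mem hg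

theorem fact_of_okEdge (S : Sem N nc inv nrots rots subsC H gc)
    (hT : ∀ j, 0 < j → j < N → par j < j) {i l : ℕ} (hi : i < N) (hl : l < nc)
    (IH : ∀ i' l', i' < N → l' < nc → Nat.div (ent i' l') mdc < Nat.div (ent i l) mdc →
      Fact H gc md ent par plet N i' l')
    (hok : okEdge N md mc mdc inv ent par plet nrots rots subsC i l = true) :
    Fact H gc md ent par plet N i l := by
  unfold okEdge at hok
  rw [force_eq, force_eq, bIf_eq_true] at hok
  obtain ⟨hj, hc⟩ := hok
  have hjN : Nat.mod (ent i l) md < N := by simpa [Nat.blt_eq] using hj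
  refine ⟨hjN, ?_⟩
  unfold certChk at hc
  rcases hcv : Nat.mod (Nat.div (ent i l) md) mc with _ | c1
  · -- tree edge
    rw [hcv] at hc
    change treeChk par plet i l (Nat.mod (ent i l) md) = true at hc
    unfold treeChk at hc
    rw [bIf_eq_true, bIf_eq_true] at hc
    obtain ⟨h1, h2, h3⟩ := hc
    have h1' : i < Nat.mod (ent i l) md := by simpa [Nat.blt_eq] using h1
    have h2' : par (Nat.mod (ent i l) md) = i := by simpa using h2
    have h3' : plet (Nat.mod (ent i l) md) = l := by simpa using h3
    rw [nd_step (H := H) (gc := gc) (plet := plet) hT (by omega) hjN, h2', h3']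
  · rw [hcv] at hc
    rcases c1 with _ | c2
    · -- inverse edge
      change invChk md mdc inv ent i l (Nat.mod (ent i l) md) (Nat.div (ent i l) mdc) = true at hc
      unfold invChk at hc
      rw [force_eq, bIf_eq_true] at hc
      obtain ⟨h1, h2⟩ := hc
      have h1' : Nat.mod (ent (Nat.mod (ent i l) md) (inv l)) md = i := by simpa using h1
      have h2' : Nat.div (ent (Nat.mod (ent i l) md) (inv l)) mdc < Nat.div (ent i l) mdc := by
        simpa [Nat.blt_eq] using h2
      obtain ⟨-, h4⟩ := IH _ _ hjN (S.inv_lt l hl) h2'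
      rw [h1', S.gc_inv l hl] at h4
      rw [← h4, smul_smul, mul_inv_cancel, one_smul]
    · change bIf (Nat.blt c2 nrots)
        (relChk md mdc ent i l (Nat.mod (ent i l) md) (Nat.div (ent i l) mdc) (rots c2))
        (subChk md mdc ent i l (Nat.mod (ent i l) md) (Nat.div (ent i l) mdc)
          (subsC (Nat.sub c2 nrots))) = true at hc
      have IH' : ∀ i' l', i' < N → l' < nc → Nat.div (ent i' l') mdc < Nat.div (ent i l) mdc →
          Fact H gc md ent par plet N i' l' := IH
      cases hr : Nat.blt c2 nrots with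
      | true =>
        rw [hr, bIf_true] at hc
        have hr' : c2 < nrots := by simpa [Nat.blt_eq] using hr
        unfold relChk at hc
        rcases hpr : rots c2 with ⟨init, l'⟩
        rw [hpr] at hc
        change bIf (Nat.beq l' l) (Nat.beq (walkR md mdc ent (Nat.div (ent i l) mdc) init
          (Nat.mod (ent i l) md)) (Nat.succ i)) false = true at hc
        rw [bIf_eq_true] at hc
        obtain ⟨h1, h2⟩ := hc
        have h1' : l' = l := by simpa using h1
        have h2' : walkR md mdc ent (Nat.div (ent i l) mdc) init (Nat.mod (ent i l) md) = i + 1 := by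
          simpa using h2
        have hlt := S.rots_lt c2 hr'
        have hone := S.rots_one c2 hr'
        rw [hpr] at hlt hone
        simp only at hlt hone
        obtain ⟨-, h4⟩ := walkR_spec IH' init _ i hjN hlt h2'
        rw [prodw_append, prodw, prodw, one_mul, h1'] at hone
        rw [← h4, smul_smul, hone, one_smul]
      | false =>
        rw [hr, bIf_false] at hc
        unfold subChk at hc
        rw [bIf_eq_true, bIf_eq_true] at hc
        obtain ⟨h1, h2, h3⟩ := hc
        have h1' : (subsC (Nat.sub c2 nrots)).2.1 = l := by simpa using h1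
        have h2' : walkR md mdc ent (Nat.div (ent i l) mdc) (subsC (Nat.sub c2 nrots)).1 0 = i + 1 := by
          simpa using h2
        have h3' : walkR md mdc ent (Nat.div (ent i l) mdc) (subsC (Nat.sub c2 nrots)).2.2
            (Nat.mod (ent i l) md) = 0 + 1 := by
          simpa using h3
        have hl' : (subsC (Nat.sub c2 nrots)).2.1 < nc := by rw [h1']; exact hl
        obtain ⟨hlt1, hlt2⟩ := S.subs_lt _ hl'
        have hmem := S.subs_mem _ hl'
        obtain ⟨-, h4⟩ := walkR_spec IH' _ _ i S.N_pos hlt1 h2'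
        obtain ⟨-, h5⟩ := walkR_spec IH' _ _ 0 hjN hlt2 h3'
        have h6 := smul_nd_zero_of_mem (gc := gc) (par := par) (plet := plet) hmem
        rw [prodw_append, prodw, h1', mul_smul, mul_smul, h4] at h6
        -- prodw post • (gc l • nd i) = nd 0 = prodw post • nd j
        rw [← h5] at h6
        exact smul_left_cancel _ h6

/-- all directed edges are certified. -/
theorem closed_of_ok (S : Sem N nc inv nrots rots subsC H gc)
    (hT : ∀ j, 0 < j → j < N → par j < j)
    (hok : ∀ i l, i < N → l < nc →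
      okEdge N md mc mdc inv ent par plet nrots rots subsC i l = true) :
    ∀ i l, i < N → l < nc → Fact H gc md ent par plet N i l := by
  have key : ∀ t i l, i < N → l < nc → Nat.div (ent i l) mdc = t →
      Fact H gc md ent par plet N i l := by
    intro t
    induction t using Nat.strong_induction_on with
    | _ t ih =>
      intro i l hi hl ht
      apply fact_of_okEdge S hT hi hl _ (hok i l hi hl)
      intro i' l' hi' hl' hlt
      exact ih _ (ht ▸ hlt) i' l' hi' hl' rfl
  intro i l hi hl
  exact key _ i l hi hl rfl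

end sem

section loops

variable {N nc md mc mdc : ℕ} {inv : ℕ → ℕ} {ent : ℕ → ℕ → ℕ} {par plet : ℕ → ℕ}
  {nrots : ℕ} {rots : ℕ → List ℕ × ℕ} {subsC : ℕ → List ℕ × ℕ × List ℕ}

theorem okRow_spec (i : ℕ) : ∀ n, okRow N md mc mdc inv ent par plet nrots rots subsC i n = true →
    ∀ l, l < n → okEdge N md mc mdc inv ent par plet nrots rots subsC i l = true := by
  intro n
  induction n with
  | zero => intro _ l hl; omega
  | succ n ih =>
    intro h l hl
    change bIf (okEdge N md mc mdc inv ent par plet nrots rots subsC i n)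
      (okRow N md mc mdc inv ent par plet nrots rots subsC i n) false = true at h
    rw [bIf_eq_true] at h
    rcases Nat.lt_succ_iff_lt_or_eq.mp hl with h1 | h1
    · exact ih h.2 l h1
    · rw [h1]; exact h.1

theorem okRows_spec (lo : ℕ) : ∀ n,
    okRows N nc md mc mdc inv ent par plet nrots rots subsC lo n = true →
    ∀ i, lo ≤ i → i < lo + n → i < N → ∀ l, l < nc →
      okEdge N md mc mdc inv ent par plet nrots rots subsC i l = true := by
  intro n
  induction n with
  | zero => intro _ i h1 h2; omega
  | succ n ih =>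
    intro h i h1 h2 hiN l hl
    change force (Nat.add lo n) (fun i =>
      bIf (bIf (Nat.blt i N) (okRow N md mc mdc inv ent par plet nrots rots subsC i nc) true)
        (okRows N nc md mc mdc inv ent par plet nrots rots subsC lo n) false) = true at h
    rw [force_eq, bIf_eq_true] at h
    by_cases hi : i = lo + n
    · subst hi
      have h3 := h.1
      have hb : Nat.blt (Nat.add lo n) N = true := by simpa [Nat.blt_eq] using hiN
      rw [hb, bIf_true] at h3
      exact okRow_spec _ nc h3 l hl
    · exact ih h.2 i h1 (by omega) hiN l hl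

theorem okTree_spec (lo : ℕ) : ∀ n, okTree N par lo n = true →
    ∀ j, lo ≤ j → j < lo + n → 0 < j → j < N → par j < j := by
  intro n
  induction n with
  | zero => intro _ j h1 h2; omega
  | succ n ih =>
    intro h j h1 h2 h0 hjN
    change force (Nat.add lo n) (fun j =>
      bIf (bIf (Nat.blt j N) (bIf (Nat.blt 0 j) (Nat.blt (par j) j) true) true)
        (okTree N par lo n) false) = true at h
    rw [force_eq, bIf_eq_true] at h
    by_cases hj : j = lo + n
    · subst hj
      have h3 := h.1
      have hb : Nat.blt (Nat.add lo n) N = true := by simpa [Nat.blt_eq] using hjN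
      have hb0 : Nat.blt 0 (Nat.add lo n) = true := by simpa [Nat.blt_eq] using h0
      rw [hb, bIf_true, hb0, bIf_true] at h3
      simpa [Nat.blt_eq] using h3
    · exact ih h.2 j h1 (by omega) h0 hjN

end loops

section consequences

variable {N nc md mc mdc : ℕ} {inv : ℕ → ℕ} {ent : ℕ → ℕ → ℕ} {par plet : ℕ → ℕ}
  {nrots : ℕ} {rots : ℕ → List ℕ × ℕ} {subsC : ℕ → List ℕ × ℕ × List ℕ}
  {G : Type*} [Group G] {H : Subgroup G} {gc : ℕ → G}

/-- closedness of the table. -/
def Closed (N nc md : ℕ) (ent : ℕ → ℕ → ℕ) (par plet : ℕ → ℕ) (H : Subgroup G) (gc : ℕ → G) : Prop :=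
  ∀ i l, i < N → l < nc → Fact H gc md ent par plet N i l

theorem exists_nd (S : Sem N nc inv nrots rots subsC H gc)
    (hgen : Subgroup.closure {g : G | ∃ l, l < nc ∧ g = gc l} = ⊤)
    (hcl : Closed N nc md ent par plet H gc) :
    ∀ q : G ⧸ H, ∃ i, i < N ∧ q = nd H gc par plet i := by
  have hN := S.N_pos
  have hall := Cfsg.Agent.Helper17.TCG.exists_nd_of_closed H _ hgen
    (by
      rintro _ ⟨l, hl, rfl⟩
      exact ⟨inv l, S.inv_lt l hl, (S.gc_inv l hl).symm⟩)
    (fun i => if i < N then nd H gc par plet i else nd H gc par plet 0)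
    (by simp [hN, nd_zero])
    (by
      rintro i _ ⟨l, hl, rfl⟩
      by_cases hi : i < N
      · obtain ⟨h1, h2⟩ := hcl i l hi hl
        exact ⟨Nat.mod (ent i l) md, by simp only [if_pos hi, if_pos h1]; exact h2⟩
      · obtain ⟨h1, h2⟩ := hcl 0 l hN hl
        exact ⟨Nat.mod (ent 0 l) md, by simp only [if_neg hi, if_pos h1]; exact h2⟩)
  intro q
  obtain ⟨i, hi⟩ := hall q
  by_cases h : i < N
  · exact ⟨i, h, by simpa [h] using hi⟩
  · exact ⟨0, hN, by simpa [h] using hi⟩

theorem finite_quot (S : Sem N nc inv nrots rots subsC H gc)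
    (hgen : Subgroup.closure {g : G | ∃ l, l < nc ∧ g = gc l} = ⊤)
    (hcl : Closed N nc md ent par plet H gc) : Finite (G ⧸ H) := by
  have hs : Function.Surjective (fun i : Fin N => nd H gc par plet i) := by
    intro q
    obtain ⟨i, hi, rfl⟩ := exists_nd S hgen hcl q
    exact ⟨⟨i, hi⟩, rfl⟩
  exact Finite.of_surjective _ hs

theorem card_quot_le (S : Sem N nc inv nrots rots subsC H gc)
    (hgen : Subgroup.closure {g : G | ∃ l, l < nc ∧ g = gc l} = ⊤)
    (hcl : Closed N nc md ent par plet H gc) : Nat.card (G ⧸ H) ≤ N := by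
  have hs : Function.Surjective (fun i : Fin N => nd H gc par plet i) := by
    intro q
    obtain ⟨i, hi, rfl⟩ := exists_nd S hgen hcl q
    exact ⟨⟨i, hi⟩, rfl⟩
  have := Nat.card_le_card_of_surjective _ hs
  simpa using this

theorem card_le (S : Sem N nc inv nrots rots subsC H gc)
    (hgen : Subgroup.closure {g : G | ∃ l, l < nc ∧ g = gc l} = ⊤)
    (hcl : Closed N nc md ent par plet H gc) : Nat.card G ≤ N * Nat.card H := by
  rw [← Subgroup.card_mul_index H, mul_comm, Subgroup.index_eq_card]
  exact Nat.mul_le_mul_right _ (card_quot_le S hgen hcl)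

/-- evaluation of a word on the table. -/
def evalw (md : ℕ) (ent : ℕ → ℕ → ℕ) : List ℕ → ℕ → ℕ
  | [], i => i
  | l :: w, i => evalw md ent w (Nat.mod (ent i l) md)

theorem smul_nd_evalw (hcl : Closed N nc md ent par plet H gc) :
    ∀ (w : List ℕ) (i : ℕ), i < N → (∀ l ∈ w, l < nc) →
      evalw md ent w i < N ∧
        prodw gc w • nd H gc par plet i = nd H gc par plet (evalw md ent w i) := by
  intro w
  induction w with
  | nil => intro i hi _; exact ⟨hi, by simp [prodw, evalw]⟩
  | cons l w ih =>
    intro i hi hw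
    obtain ⟨h1, h2⟩ := hcl i l hi (hw l (List.mem_cons_self ..))
    obtain ⟨h3, h4⟩ := ih _ h1 (fun x hx => hw x (List.mem_cons_of_mem _ hx))
    exact ⟨h3, by rw [prodw, mul_smul, h2, h4, evalw]⟩

theorem mem_of_evalw_zero (S : Sem N nc inv nrots rots subsC H gc)
    (hcl : Closed N nc md ent par plet H gc) {w : List ℕ}
    (hw : ∀ l ∈ w, l < nc) (h0 : evalw md ent w 0 = 0) : prodw gc w ∈ H := by
  obtain ⟨-, h⟩ := smul_nd_evalw hcl w 0 S.N_pos hw
  rw [h0, nd_zero, MulAction.Quotient.smul_mk, QuotientGroup.eq] at h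
  simpa using H.inv_mem h

/-- rotations of a trivial word are trivial. -/
theorem prodw_rotate_one {w : List ℕ} (h : prodw gc w = 1) (k : ℕ) :
    prodw gc (w.rotate k) = 1 := by
  rcases Nat.lt_or_ge k w.length with hk | hk
  · rw [List.rotate_eq_drop_append_take hk.le, prodw_append]
    have : prodw gc w = prodw gc (w.drop k) * prodw gc (w.take k) := by
      rw [← prodw_append, List.take_append_drop]
    rw [this] at h
    exact mul_eq_one_comm.mp h
  · have : w.rotate k = w.rotate (k % w.length) := (List.rotate_mod w k).symm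
    rw [this]
    rcases Nat.eq_zero_or_pos w.length with h0 | h0
    · have : w = [] := List.length_eq_zero_iff.mp h0
      subst this; simpa using h
    · have hk' : k % w.length < w.length := Nat.mod_lt _ h0
      rw [List.rotate_eq_drop_append_take hk'.le, prodw_append]
      have : prodw gc w = prodw gc (w.drop (k % w.length)) * prodw gc (w.take (k % w.length)) := by
        rw [← prodw_append, List.take_append_drop]
      rw [this] at h
      exact mul_eq_one_comm.mp h

end consequences

section data

variable {N nc : ℕ} {inv : ℕ → ℕ} {nrots : ℕ} {rots : ℕ → List ℕ × ℕ}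
  {subsC : ℕ → List ℕ × ℕ × List ℕ} {G : Type*} [Group G] {H : Subgroup G} {gc : ℕ → G}

theorem forall_lt_of_all {p : ℕ → Bool} {n : ℕ} (h : (List.range n).all p = true) :
    ∀ r, r < n → p r = true := by
  intro r hr
  rw [List.all_eq_true] at h
  exact h r (List.mem_range.mpr hr)

/-- decidable data conditions on the rotated relators. -/
def rotOK (nc : ℕ) (rels : List (List ℕ)) (p : List ℕ × ℕ) : Bool :=
  p.1.all (fun x => decide (x < nc)) &&
    rels.any (fun w => (List.range w.length).any (fun k => w.rotate k == p.1 ++ [p.2]))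

/-- decidable data conditions on the subgroup word triples. -/
def subOK (nc : ℕ) (subs : List (List ℕ)) (p : List ℕ × ℕ × List ℕ) : Bool :=
  p.1.all (fun x => decide (x < nc)) && p.2.2.all (fun x => decide (x < nc)) &&
    subs.contains (p.1 ++ p.2.1 :: p.2.2)

/-- `Sem` from decidable data facts and the group-theoretic facts about relators. -/
theorem sem_of_data (rels subs : List (List ℕ)) (rotL : List (List ℕ × ℕ))
    (subL : List (List ℕ × ℕ × List ℕ))
    (hinv_lt : ∀ l, l < nc → inv l < nc) (hgc_inv : ∀ l, l < nc → gc (inv l) = (gc l)⁻¹)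
    (hrotsF : (List.range nrots).all (fun r => rotL.contains (rots r)) = true)
    (hrotL : rotL.all (rotOK nc rels) = true)
    (hrels : ∀ w ∈ rels, prodw gc w = 1)
    (hsubsF : ∀ s, (subsC s).2.1 < nc → subsC s ∈ subL)
    (hsubL : subL.all (subOK nc subs) = true)
    (hsubs : ∀ w ∈ subs, prodw gc w ∈ H) (hN : 0 < N) :
    Sem N nc inv nrots rots subsC H gc := by
  have hrot : ∀ r, r < nrots → (∀ x ∈ (rots r).1, x < nc) ∧
      prodw gc ((rots r).1 ++ [(rots r).2]) = 1 := by
    intro r hr
    have h1 := forall_lt_of_all hrotsF r hr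
    rw [List.contains_iff_mem] at h1
    rw [List.all_eq_true] at hrotL
    have h2 := hrotL _ h1
    unfold rotOK at h2
    rw [Bool.and_eq_true, List.all_eq_true, List.any_eq_true] at h2
    obtain ⟨h3, w, hw, h4⟩ := h2
    rw [List.any_eq_true] at h4
    obtain ⟨k, -, h5⟩ := h4
    rw [beq_iff_eq] at h5
    refine ⟨fun x hx => by simpa using h3 x hx, ?_⟩
    rw [← h5]
    exact prodw_rotate_one (hrels w hw) k
  have hsub : ∀ s, (subsC s).2.1 < nc → ((∀ x ∈ (subsC s).1, x < nc) ∧
      (∀ x ∈ (subsC s).2.2, x < nc)) ∧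
      prodw gc ((subsC s).1 ++ (subsC s).2.1 :: (subsC s).2.2) ∈ H := by
    intro s hs
    have h1 := hsubsF s hs
    rw [List.all_eq_true] at hsubL
    have h2 := hsubL _ h1
    unfold subOK at h2
    rw [Bool.and_eq_true, Bool.and_eq_true, List.all_eq_true, List.all_eq_true,
      List.contains_iff_mem] at h2
    obtain ⟨⟨h3, h4⟩, h5⟩ := h2
    exact ⟨⟨fun x hx => by simpa using h3 x hx, fun x hx => by simpa using h4 x hx⟩, hsubs _ h5⟩
  exact {
    inv_lt := hinv_lt
    gc_inv := hgc_inv
    rots_lt := fun r hr => (hrot r hr).1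
    rots_one := fun r hr => (hrot r hr).2
    subs_lt := fun s hs => (hsub s hs).1
    subs_mem := fun s hs => (hsub s hs).2
    N_pos := hN }

end data

end Cfsg.Agent.Helper19.TCS
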