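import Mathlib
import Cfsg.Agent.Helper19.TCR.Static
import Cfsg.Agent.Helper19.TCR.LabDefs

/-! Soundness of the labelled ("modified") Todd-Coxeter certificate checker of `LabDefs`. -/

set_option autoImplicit false
set_option linter.all false

namespace Cfsg.Agent.Helper19.TCL

open Cfsg.Agent.Helper19.TCS

/-- the `k` base-`M` digits of `P`. -/
def flds (M : ℕ) : ℕ → ℕ → List ℕ
  | 0, _ => []
  | k + 1, P => (P % M) :: flds M k (P / M)

theorem flds_length (M : ℕ) : ∀ k P, (flds M k P).length = k := by
  intro k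
  induction k with
  | zero => intro P; rfl
  | succ k ih => intro P; simp [flds, ih]

theorem fldOK_spec {M Mb : ℕ} : ∀ k P, fldOK M Mb k P = true →
    Nat.ofDigits M (flds M k P) = P ∧ ∀ d ∈ flds M k P, d < Mb := by
  intro k
  induction k with
  | zero =>
    intro P h
    rw [fldOK_zero] at h
    have : P = 0 := by simpa using h
    subst this
    simp [flds]
  | succ k ih =>
    intro P h
    rw [fldOK_succ, bIf_eq_true] at h
    obtain ⟨h1, h2⟩ := h
    have h1' : P % M < Mb := by
      have := h1
      simp only [Nat.blt_eq] at this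
      exact this
    obtain ⟨h3, h4⟩ := ih (P / M) h2
    refine ⟨?_, ?_⟩
    · rw [flds, Nat.ofDigits_cons, h3]
      exact Nat.mod_add_div P M
    · intro d hd
      rw [flds, List.mem_cons] at hd
      rcases hd with rfl | hd
      · exact h1'
      · exact h4 d hd

theorem zipWith_add_le {a b : ℕ} : ∀ (D1 D2 : List ℕ), (∀ d ∈ D1, d < a) → (∀ d ∈ D2, d ≤ b) →
    ∀ d ∈ List.zipWith (· + ·) D1 D2, d ≤ a + b := by
  intro D1
  induction D1 with
  | nil => intro D2 _ _ d hd; simp at hd
  | cons x D1 ih =>
    intro D2 h1 h2 d hd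
    cases D2 with
    | nil => simp at hd
    | cons y D2 =>
      rw [List.zipWith_cons_cons, List.mem_cons] at hd
      rcases hd with rfl | hd
      · have := h1 x List.mem_cons_self
        have := h2 y List.mem_cons_self
        omega
      · exact ih D2 (fun d hd => h1 d (List.mem_cons_of_mem _ hd))
          (fun d hd => h2 d (List.mem_cons_of_mem _ hd)) d hd

theorem zipWith_add_lt {a b : ℕ} : ∀ (D1 D2 : List ℕ), (∀ d ∈ D1, d < a) → (∀ d ∈ D2, d < b) →
    ∀ d ∈ List.zipWith (· + ·) D1 D2, d < a + b := by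
  intro D1
  induction D1 with
  | nil => intro D2 _ _ d hd; simp at hd
  | cons x D1 ih =>
    intro D2 h1 h2 d hd
    cases D2 with
    | nil => simp at hd
    | cons y D2 =>
      rw [List.zipWith_cons_cons, List.mem_cons] at hd
      rcases hd with rfl | hd
      · have := h1 x List.mem_cons_self
        have := h2 y List.mem_cons_self
        omega
      · exact ih D2 (fun d hd => h1 d (List.mem_cons_of_mem _ hd))
          (fun d hd => h2 d (List.mem_cons_of_mem _ hd)) d hd

theorem zipWith_add_le_le {a b : ℕ} : ∀ (D1 D2 : List ℕ), (∀ d ∈ D1, d ≤ a) → (∀ d ∈ D2, d ≤ b) →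
    ∀ d ∈ List.zipWith (· + ·) D1 D2, d ≤ a + b := by
  intro D1
  induction D1 with
  | nil => intro D2 _ _ d hd; simp at hd
  | cons x D1 ih =>
    intro D2 h1 h2 d hd
    cases D2 with
    | nil => simp at hd
    | cons y D2 =>
      rw [List.zipWith_cons_cons, List.mem_cons] at hd
      rcases hd with rfl | hd
      · have := h1 x List.mem_cons_self
        have := h2 y List.mem_cons_self
        omega
      · exact ih D2 (fun d hd => h1 d (List.mem_cons_of_mem _ hd))
          (fun d hd => h2 d (List.mem_cons_of_mem _ hd)) d hd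

theorem zipWith_replicate_add (k a b : ℕ) :
    List.zipWith (· + ·) (List.replicate k a) (List.replicate k b) = List.replicate k (a + b) := by
  induction k with
  | zero => rfl
  | succ k ih => simp [List.replicate_succ, ih]

section sem

variable {Γ : Type*} [Group Γ] {C : Type*} [CommGroup C]

/-- semantics of a digit list which is a sum of `n` biased vectors (bias `B`), digits attached to
the generators `gen c, gen (c+1), …`. -/
def dsem (gen : ℕ → C) (B n : ℕ) : ℕ → List ℕ → C
  | _, [] => 1
  | c, d :: D => gen c ^ ((d : ℤ) - (n : ℤ) * (B : ℤ)) * dsem gen B n (c + 1) D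

theorem dsem_zipWith (gen : ℕ → C) (B n n' : ℕ) : ∀ (D D' : List ℕ) (c : ℕ),
    D.length = D'.length →
    dsem gen B (n + n') c (List.zipWith (· + ·) D D') = dsem gen B n c D * dsem gen B n' c D' := by
  intro D
  induction D with
  | nil =>
    intro D' c h
    cases D' with
    | nil => simp [dsem]
    | cons _ _ => simp at h
  | cons d D ih =>
    intro D' c h
    cases D' with
    | nil => simp at h
    | cons d' D' =>
      simp only [List.length_cons, add_left_inj] at h
      rw [List.zipWith_cons_cons, dsem, dsem, dsem, ih D' (c + 1) h]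
      have : (((d + d' : ℕ) : ℤ) - ((n + n' : ℕ) : ℤ) * (B : ℤ)) =
          ((d : ℤ) - (n : ℤ) * (B : ℤ)) + ((d' : ℤ) - (n' : ℤ) * (B : ℤ)) := by
        push_cast; ring
      rw [this, zpow_add]
      exact mul_mul_mul_comm _ _ _ _

theorem dsem_replicate (gen : ℕ → C) (B n : ℕ) : ∀ (k c : ℕ),
    dsem gen B n c (List.replicate k (n * B)) = 1 := by
  intro k
  induction k with
  | zero => intro c; rfl
  | succ k ih =>
    intro c
    rw [List.replicate_succ, dsem, ih]
    simp

variable {N nc md mc mr md2 mdc mdcr kk M Mb B BA : ℕ} {inv : ℕ → ℕ} {ent : ℕ → ℕ → ℕ}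
  {par plet : ℕ → ℕ} {nrots : ℕ} {rots : ℕ → List ℕ × ℕ × ℕ}
  {subsC : ℕ → List ℕ × ℕ × List ℕ × ℕ}
  (gc : ℕ → Γ) (ι : C →* Γ) (gen : ℕ → C)

/-- the tree representative of a coset. -/
def repL (par plet : ℕ → ℕ) (i : ℕ) : Γ := rep gc par plet i i

theorem repL_zero : repL gc par plet 0 = 1 := by simp [repL, rep]

theorem repL_step (hT : ∀ j, 0 < j → j < N → par j < j) {i : ℕ} (h0 : 0 < i) (hi : i < N) :
    repL gc par plet i = gc (plet i) * repL gc par plet (par i) := by
  have hp := hT i h0 hi
  obtain ⟨i', rfl⟩ : ∃ i', i = i' + 1 := ⟨i - 1, by omega⟩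
  have hne : i' + 1 ≠ 0 := by omega
  unfold repL
  simp only [rep, if_neg hne]
  rw [rep_fuel gc hT _ (by omega) i' (by omega)]

/-- the fact certified for the directed edge `(i, l)`. -/
def FactL (N md mdcr kk M Mb B : ℕ) (ent : ℕ → ℕ → ℕ) (par plet : ℕ → ℕ) (i l : ℕ) : Prop :=
  Nat.mod (ent i l) md < N ∧ fldOK M Mb kk (Nat.div (ent i l) mdcr) = true ∧
    gc l * repL gc par plet i = repL gc par plet (Nat.mod (ent i l) md) *
      ι (dsem gen B 1 0 (flds M kk (Nat.div (ent i l) mdcr)))

variable {gc ι gen}

theorem walkL_spec {t : ℕ}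
    (IH : ∀ i l, i < N → l < nc → Nat.mod (Nat.div (ent i l) mdc) mr < t →
      FactL gc ι gen N md mdcr kk M Mb B ent par plet i l) :
    ∀ (w : List ℕ) (f acc res : ℕ), f < N → (∀ x ∈ w, x < nc) →
      walkL md mr md2 mdc mdcr ent t w f acc = res → res ≠ 0 →
      ∃ f' D, f' < N ∧ res = (f' + 1) + md2 * (acc + Nat.ofDigits M D) ∧ D.length = kk ∧
        (∀ d ∈ D, d ≤ w.length * Mb) ∧
        prodw gc w * repL gc par plet f = repL gc par plet f' * ι (dsem gen B w.length 0 D) := by
  intro w
  induction w with
  | nil =>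
    intro f acc res hf _ h hres
    rw [walkL_nil] at h
    refine ⟨f, List.replicate kk 0, hf, ?_, by simp, ?_, ?_⟩
    · rw [← h]; simp
    · intro d hd
      rw [List.mem_replicate] at hd
      omega
    · have h0 := dsem_replicate gen B 0 kk 0
      rw [zero_mul] at h0
      simp [prodw, h0]
  | cons x w ih =>
    intro f acc res hf hw h hres
    rw [walkL_cons] at h
    have hx : x < nc := hw x List.mem_cons_self
    cases hb : Nat.blt (Nat.mod (Nat.div (ent f x) mdc) mr) t with
    | false => rw [hb, bIf_false] at h; exact absurd h.symm hres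
    | true =>
      rw [hb, bIf_true] at h
      have hlt : Nat.mod (Nat.div (ent f x) mdc) mr < t := by
        simpa [Nat.blt_eq] using hb
      obtain ⟨h1, h2, h3⟩ := IH f x hf hx hlt
      obtain ⟨h4, h5⟩ := fldOK_spec _ _ h2
      obtain ⟨f', D', hf', hres', hlen, hbd, heq⟩ :=
        ih _ _ res h1 (fun y hy => hw y (List.mem_cons_of_mem _ hy)) h hres
      have hl1 : (flds M kk (Nat.div (ent f x) mdcr)).length = D'.length := by
        rw [flds_length, hlen]
      refine ⟨f', List.zipWith (· + ·) (flds M kk (Nat.div (ent f x) mdcr)) D', hf', ?_, ?_, ?_, ?_⟩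
      · rw [hres', ← Nat.ofDigits_add_ofDigits_eq_ofDigits_zipWith_of_length_eq hl1, h4]
        simp only [Nat.add_eq, Nat.add_assoc]
      · rw [List.length_zipWith, flds_length, hlen, min_self]
      · intro d hd
        have := zipWith_add_le _ _ h5 hbd d hd
        rw [List.length_cons]
        calc d ≤ Mb + w.length * Mb := this
          _ = (w.length + 1) * Mb := by ring
      · rw [prodw, mul_assoc, h3, ← mul_assoc, heq, mul_assoc, ← map_mul, List.length_cons,
          Nat.add_comm w.length 1, dsem_zipWith gen B 1 w.length _ _ 0 hl1, mul_comm]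


/-- hypotheses linking the data to the group. -/
structure SemL (N nc md2 kk M Mb B BA : ℕ) (inv : ℕ → ℕ) (nrots : ℕ)
    (rots : ℕ → List ℕ × ℕ × ℕ) (subsC : ℕ → List ℕ × ℕ × List ℕ × ℕ)
    (gc : ℕ → Γ) (ι : C →* Γ) (gen : ℕ → C) : Prop where
  inv_lt : ∀ l, l < nc → inv l < nc
  gc_inv : ∀ l, l < nc → gc (inv l) = (gc l)⁻¹
  hM : 1 < M
  hMb : 2 * Mb ≤ M
  hB : B < Mb
  hBA : BA = Nat.ofDigits M (List.replicate kk B)
  hmd2 : N < md2
  N_pos : 0 < N
  rots_ok : ∀ r, r < nrots → (∀ x ∈ (rots r).1, x < nc) ∧ ((rots r).1.length + 1) * Mb < M ∧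
    ∃ E : List ℕ, E.length = kk ∧ (∀ d ∈ E, d < M) ∧ Nat.ofDigits M E = (rots r).2.2 ∧
      prodw gc ((rots r).1 ++ [(rots r).2.1]) = ι (dsem gen B ((rots r).1.length + 1) 0 E) ∧
      ∀ g : Γ, Commute (prodw gc ((rots r).1 ++ [(rots r).2.1])) g
  subs_ok : ∀ s, (subsC s).2.1 < nc → (∀ x ∈ (subsC s).1, x < nc) ∧
    (∀ x ∈ (subsC s).2.2.1, x < nc) ∧
    ((subsC s).1.length + (subsC s).2.2.1.length + 1) * Mb < M ∧
    ∃ E : List ℕ, E.length = kk ∧ (∀ d ∈ E, d < M) ∧ Nat.ofDigits M E = (subsC s).2.2.2 ∧
      prodw gc ((subsC s).1 ++ (subsC s).2.1 :: (subsC s).2.2.1) =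
        ι (dsem gen B ((subsC s).1.length + (subsC s).2.2.1.length + 1) 0 E)

theorem res_decomp {md2 f' a : ℕ} (h : f' + 1 < md2) :
    Nat.mod ((f' + 1) + md2 * a) md2 = f' + 1 ∧ Nat.div ((f' + 1) + md2 * a) md2 = a := by
  constructor
  · show ((f' + 1) + md2 * a) % md2 = f' + 1
    rw [Nat.add_mul_mod_self_left, Nat.mod_eq_of_lt h]
  · show ((f' + 1) + md2 * a) / md2 = a
    rw [Nat.add_mul_div_left _ _ (by omega), Nat.div_eq_of_lt h, zero_add]

theorem fact_of_okEdgeL (S : SemL N nc md2 kk M Mb B BA inv nrots rots subsC gc ι gen)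
    (hT : ∀ j, 0 < j → j < N → par j < j) {i l : ℕ} (hi : i < N) (hl : l < nc)
    (IH : ∀ i' l', i' < N → l' < nc →
      Nat.mod (Nat.div (ent i' l') mdc) mr < Nat.mod (Nat.div (ent i l) mdc) mr →
      FactL gc ι gen N md mdcr kk M Mb B ent par plet i' l')
    (hok : okEdgeL N md mc mr md2 mdc mdcr kk M Mb BA inv ent par plet nrots rots subsC i l = true) :
    FactL gc ι gen N md mdcr kk M Mb B ent par plet i l := by
  have hM := S.hM
  have hMb := S.hMb
  have hB := S.hB
  unfold okEdgeL at hok
  rw [force_eq, force_eq, bIf_eq_true, force_eq, bIf_eq_true] at hok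
  obtain ⟨hj, hf, hc⟩ := hok
  have hjN : Nat.mod (ent i l) md < N := by simpa [Nat.blt_eq] using hj
  refine ⟨hjN, hf, ?_⟩
  obtain ⟨hD, hDb⟩ := fldOK_spec _ _ hf
  have hDlen := flds_length M kk (Nat.div (ent i l) mdcr)
  set D := flds M kk (Nat.div (ent i l) mdcr) with hDdef
  have hDM : ∀ d ∈ D, d < M := fun d hd => lt_of_lt_of_le (hDb d hd) (by omega)
  unfold certChkL at hc
  rcases hcv : Nat.mod (Nat.div (ent i l) md) mc with _ | c1
  · -- tree edge
    rw [hcv] at hc
    change treeChkL BA par plet i l (Nat.mod (ent i l) md) (Nat.div (ent i l) mdcr) = true at hc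
    unfold treeChkL at hc
    rw [bIf_eq_true, bIf_eq_true, bIf_eq_true] at hc
    obtain ⟨h1, h2, h3, h4⟩ := hc
    have h1' : i < Nat.mod (ent i l) md := by simpa [Nat.blt_eq] using h1
    have h2' : par (Nat.mod (ent i l) md) = i := by simpa using h2
    have h3' : plet (Nat.mod (ent i l) md) = l := by simpa using h3
    have h4' : Nat.div (ent i l) mdcr = BA := by simpa using h4
    have hDeq : D = List.replicate kk B := by
      apply Nat.ofDigits_inj_of_len_eq hM (by rw [hDlen, List.length_replicate]) hDM
      · intro d hd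
        rw [List.mem_replicate] at hd
        omega
      · rw [hD, h4', S.hBA]
    rw [hDeq]
    have h5 := dsem_replicate gen B 1 kk 0
    rw [one_mul] at h5
    rw [h5, map_one, mul_one, repL_step (gc := gc) (plet := plet) hT (by omega) hjN, h2', h3']
  · rw [hcv] at hc
    rcases c1 with _ | c2
    · -- inverse edge
      change invChkL md mr mdc mdcr BA inv ent i l (Nat.mod (ent i l) md)
        (Nat.mod (Nat.div (ent i l) mdc) mr) (Nat.div (ent i l) mdcr) = true at hc
      unfold invChkL at hc
      rw [force_eq, bIf_eq_true, bIf_eq_true] at hc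
      obtain ⟨h1, h2, h3⟩ := hc
      set j := Nat.mod (ent i l) md with hjdef
      have h1' : Nat.mod (ent j (inv l)) md = i := by simpa using h1
      have h2' : Nat.mod (Nat.div (ent j (inv l)) mdc) mr < Nat.mod (Nat.div (ent i l) mdc) mr := by
        simpa [Nat.blt_eq] using h2
      have h3' : Nat.div (ent j (inv l)) mdcr + Nat.div (ent i l) mdcr = BA + BA := by
        simpa using h3
      obtain ⟨-, h4, h5⟩ := IH _ _ hjN (S.inv_lt l hl) h2'
      obtain ⟨hD', hDb'⟩ := fldOK_spec _ _ h4
      have hDlen' := flds_length M kk (Nat.div (ent j (inv l)) mdcr)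
      set D' := flds M kk (Nat.div (ent j (inv l)) mdcr) with hDdef'
      have hll : D'.length = D.length := by rw [hDlen', hDlen]
      have hsum : List.zipWith (· + ·) D' D = List.replicate kk (2 * B) := by
        apply Nat.ofDigits_inj_of_len_eq hM
        · rw [List.length_zipWith, hDlen', hDlen, min_self, List.length_replicate]
        · intro d hd
          have := zipWith_add_lt _ _ hDb' hDb d hd
          omega
        · intro d hd
          rw [List.mem_replicate] at hd
          omega
        · rw [← Nat.ofDigits_add_ofDigits_eq_ofDigits_zipWith_of_length_eq hll, hD', hD, h3',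
            S.hBA, Nat.ofDigits_add_ofDigits_eq_ofDigits_zipWith_of_length_eq rfl,
            zipWith_replicate_add, two_mul]
      have hprod : dsem gen B 1 0 D' * dsem gen B 1 0 D = 1 := by
        rw [← dsem_zipWith gen B 1 1 D' D 0 hll, hsum]
        exact dsem_replicate gen B 2 kk 0
      rw [h1', S.gc_inv l hl] at h5
      -- h5 : (gc l)⁻¹ * rep j = rep i * ι s'
      have h6 : repL gc par plet j = gc l * repL gc par plet i * ι (dsem gen B 1 0 D') := by
        rw [mul_assoc, ← h5, mul_inv_cancel_left]
      have h7 : ι (dsem gen B 1 0 D') * ι (dsem gen B 1 0 D) = 1 := by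
        rw [← map_mul, hprod, map_one]
      rw [h6, mul_assoc, h7, mul_one]
    · change bIf (Nat.blt c2 nrots)
        (relChkL md mr md2 mdc mdcr ent i l (Nat.mod (ent i l) md)
          (Nat.mod (Nat.div (ent i l) mdc) mr) (Nat.div (ent i l) mdcr) (rots c2))
        (subChkL md mr md2 mdc mdcr ent i l (Nat.mod (ent i l) md)
          (Nat.mod (Nat.div (ent i l) mdc) mr) (Nat.div (ent i l) mdcr)
          (subsC (Nat.sub c2 nrots))) = true at hc
      set j := Nat.mod (ent i l) md with hjdef
      cases hr : Nat.blt c2 nrots with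
      | true =>
        rw [hr, bIf_true] at hc
        have hr' : c2 < nrots := by simpa [Nat.blt_eq] using hr
        unfold relChkL at hc
        rw [bIf_eq_true, force_eq, bIf_eq_true] at hc
        obtain ⟨h1, h2, h3⟩ := hc
        have h1' : (rots c2).2.1 = l := by simpa using h1
        obtain ⟨hlt, hlen, E, hEl, hEM, hE, hprod, hcen⟩ := S.rots_ok c2 hr'
        have h2e := Nat.eq_of_beq_eq_true h2
        have h3e := Nat.eq_of_beq_eq_true h3
        have hres : walkL md mr md2 mdc mdcr ent (Nat.mod (Nat.div (ent i l) mdc) mr) (rots c2).1 j 0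
            ≠ 0 := by
          intro h0
          rw [h0, show Nat.mod 0 md2 = 0 from Nat.zero_mod _] at h2e
          exact Nat.succ_ne_zero i h2e.symm
        obtain ⟨f', D', hf', hreq, hl', hbd', heq⟩ := walkL_spec IH _ _ 0 _ hjN hlt rfl hres
        have hf2 : f' + 1 < md2 := by have := S.hmd2; omega
        obtain ⟨hm, hd⟩ := res_decomp (a := 0 + Nat.ofDigits M D') hf2
        rw [hreq] at h2e h3e
        rw [hm] at h2e
        rw [hd] at h3e
        have hfi : f' = i := by
          have : f' + 1 = i + 1 := h2e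
          omega
        subst hfi
        have h3' : Nat.ofDigits M D' + Nat.div (ent f' l) mdcr = (rots c2).2.2 := by
          have := h3e
          simp only [Nat.add_eq, zero_add] at this
          exact this
        have hll : D'.length = D.length := by rw [hl', hDlen]
        have hsum : List.zipWith (· + ·) D' D = E := by
          apply Nat.ofDigits_inj_of_len_eq hM
          · rw [List.length_zipWith, hl', hDlen, min_self, hEl]
          · intro d hd
            have hD' : ∀ d ∈ D, d ≤ Mb := fun d hd => (hDb d hd).le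
            have h8 := zipWith_add_le_le _ _ hbd' hD' d hd
            calc d ≤ (rots c2).1.length * Mb + Mb := h8
              _ = ((rots c2).1.length + 1) * Mb := by ring
              _ < M := hlen
          · exact hEM
          · rw [← Nat.ofDigits_add_ofDigits_eq_ofDigits_zipWith_of_length_eq hll, hD, h3', hE]
        have hsem : dsem gen B (rots c2).1.length 0 D' * dsem gen B 1 0 D =
            dsem gen B ((rots c2).1.length + 1) 0 E := by
          rw [← dsem_zipWith gen B _ 1 D' D 0 hll, hsum]
        -- group computation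
        rw [prodw_append, prodw, prodw, one_mul, h1'] at hprod hcen
        -- hprod : gc l * prodw init = ι (dsem E); heq : prodw init * rep j = rep i * ι s'
        have h9 : gc l * repL gc par plet f' * ι (dsem gen B (rots c2).1.length 0 D') =
            repL gc par plet j * (gc l * prodw gc (rots c2).1) := by
          rw [mul_assoc, ← heq, ← mul_assoc, (hcen (repL gc par plet j)).eq]
        rw [hprod, ← hsem, map_mul, ← mul_assoc] at h9
        -- h9 : gc l * rep i * ι s' = rep j * ι s' * ι s  (after commuting)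
        have h10 : repL gc par plet j * ι (dsem gen B (rots c2).1.length 0 D') * ι (dsem gen B 1 0 D) =
            repL gc par plet j * ι (dsem gen B 1 0 D) * ι (dsem gen B (rots c2).1.length 0 D') := by
          rw [mul_assoc, mul_assoc, ← map_mul, ← map_mul, mul_comm]
        rw [h10] at h9
        exact mul_right_cancel h9
      | false =>
        rw [hr, bIf_false] at hc
        unfold subChkL at hc
        rw [bIf_eq_true, force_eq, bIf_eq_true, force_eq, bIf_eq_true] at hc
        obtain ⟨h1, h2, h3, h4⟩ := hc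
        set p := subsC (Nat.sub c2 nrots) with hp
        have h1' : p.2.1 = l := by simpa using h1
        have hl' : p.2.1 < nc := by rw [h1']; exact hl
        obtain ⟨hlt1, hlt2, hlen, E, hEl, hEM, hE, hprod⟩ := S.subs_ok _ hl'
        have h2e := Nat.eq_of_beq_eq_true h2
        have h3e := Nat.eq_of_beq_eq_true h3
        have h4e := Nat.eq_of_beq_eq_true h4
        have hres1 : walkL md mr md2 mdc mdcr ent (Nat.mod (Nat.div (ent i l) mdc) mr) p.1 0 0 ≠ 0 := by
          intro h0
          rw [h0, show Nat.mod 0 md2 = 0 from Nat.zero_mod _] at h2e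
          exact Nat.succ_ne_zero i h2e.symm
        have hres2 : walkL md mr md2 mdc mdcr ent (Nat.mod (Nat.div (ent i l) mdc) mr) p.2.2.1 j 0
            ≠ 0 := by
          intro h0
          rw [h0, show Nat.mod 0 md2 = 0 from Nat.zero_mod _] at h3e
          exact Nat.zero_ne_one h3e
        obtain ⟨f1, D1, hf1, hreq1, hl1, hbd1, heq1⟩ := walkL_spec IH _ _ 0 _ S.N_pos hlt1 rfl hres1
        obtain ⟨f2, D2, hf2, hreq2, hl2, hbd2, heq2⟩ := walkL_spec IH _ _ 0 _ hjN hlt2 rfl hres2
        have hf1' : f1 + 1 < md2 := by have := S.hmd2; omega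
        have hf2' : f2 + 1 < md2 := by have := S.hmd2; omega
        obtain ⟨hm1, hd1⟩ := res_decomp (a := 0 + Nat.ofDigits M D1) hf1'
        obtain ⟨hm2, hd2⟩ := res_decomp (a := 0 + Nat.ofDigits M D2) hf2'
        rw [hreq1] at h2e h4e
        rw [hreq2] at h3e h4e
        rw [hm1] at h2e
        rw [hm2] at h3e
        rw [hd1, hd2] at h4e
        have hfi : f1 = i := by
          have : f1 + 1 = i + 1 := h2e
          omega
        have hf0 : f2 = 0 := by
          have : f2 + 1 = 1 := h3e
          omega
        subst hfi hf0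
        have h4' : Nat.ofDigits M D1 + Nat.ofDigits M D2 + Nat.div (ent f1 l) mdcr = p.2.2.2 := by
          have := h4e
          simp only [Nat.add_eq, zero_add] at this
          exact this
        have hll12 : D1.length = D2.length := by rw [hl1, hl2]
        have hll : (List.zipWith (· + ·) D1 D2).length = D.length := by
          rw [List.length_zipWith, hl1, hl2, min_self, hDlen]
        have hbd12 : ∀ d ∈ List.zipWith (· + ·) D1 D2, d ≤ p.1.length * Mb + p.2.2.1.length * Mb :=
          zipWith_add_le_le _ _ hbd1 hbd2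
        have hsum : List.zipWith (· + ·) (List.zipWith (· + ·) D1 D2) D = E := by
          apply Nat.ofDigits_inj_of_len_eq hM
          · rw [List.length_zipWith, hll, min_self, hDlen, hEl]
          · intro d hd
            have hD' : ∀ d ∈ D, d ≤ Mb := fun d hd => (hDb d hd).le
            have h8 := zipWith_add_le_le _ _ hbd12 hD' d hd
            calc d ≤ p.1.length * Mb + p.2.2.1.length * Mb + Mb := h8
              _ = (p.1.length + p.2.2.1.length + 1) * Mb := by ring
              _ < M := hlen
          · exact hEM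
          · rw [← Nat.ofDigits_add_ofDigits_eq_ofDigits_zipWith_of_length_eq hll,
              ← Nat.ofDigits_add_ofDigits_eq_ofDigits_zipWith_of_length_eq hll12, hD, h4', hE]
        have hsem : dsem gen B (p.1.length + p.2.2.1.length + 1) 0 E =
            dsem gen B p.1.length 0 D1 * dsem gen B p.2.2.1.length 0 D2 * dsem gen B 1 0 D := by
          rw [← hsum, dsem_zipWith gen B _ 1 _ D 0 hll, dsem_zipWith gen B _ _ D1 D2 0 hll12]
        rw [repL_zero, mul_one] at heq1
        rw [repL_zero, one_mul] at heq2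
        rw [prodw_append, prodw, h1', heq1, hsem, map_mul, map_mul] at hprod
        -- hprod : prodw post * gc l * (rep i * ι s1) = ι s1 * ι s2 * ι s
        apply mul_left_cancel (a := prodw gc p.2.2.1)
        apply mul_right_cancel (b := ι (dsem gen B p.1.length 0 D1))
        calc prodw gc p.2.2.1 * (gc l * repL gc par plet f1) * ι (dsem gen B p.1.length 0 D1)
            = prodw gc p.2.2.1 * gc l * (repL gc par plet f1 * ι (dsem gen B p.1.length 0 D1)) := by
              simp only [mul_assoc]
          _ = ι (dsem gen B p.1.length 0 D1) * ι (dsem gen B p.2.2.1.length 0 D2) *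
              ι (dsem gen B 1 0 D) := hprod
          _ = ι (dsem gen B p.2.2.1.length 0 D2) * ι (dsem gen B 1 0 D) *
              ι (dsem gen B p.1.length 0 D1) := by
              rw [← map_mul, ← map_mul, ← map_mul, ← map_mul]
              congr 1
              rw [mul_comm (dsem gen B p.1.length 0 D1), mul_assoc, mul_comm (dsem gen B p.1.length 0 D1),
                ← mul_assoc]
          _ = prodw gc p.2.2.1 * (repL gc par plet j * ι (dsem gen B 1 0 D)) *
              ι (dsem gen B p.1.length 0 D1) := by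
              rw [← mul_assoc, heq2]

/-- all directed edges are certified. -/
theorem closed_of_okL (S : SemL N nc md2 kk M Mb B BA inv nrots rots subsC gc ι gen)
    (hT : ∀ j, 0 < j → j < N → par j < j)
    (hok : ∀ i l, i < N → l < nc →
      okEdgeL N md mc mr md2 mdc mdcr kk M Mb BA inv ent par plet nrots rots subsC i l = true) :
    ∀ i l, i < N → l < nc → FactL gc ι gen N md mdcr kk M Mb B ent par plet i l := by
  have key : ∀ t i l, i < N → l < nc → Nat.mod (Nat.div (ent i l) mdc) mr = t →
      FactL gc ι gen N md mdcr kk M Mb B ent par plet i l := by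
    intro t
    induction t using Nat.strong_induction_on with
    | _ t ih =>
      intro i l hi hl ht
      apply fact_of_okEdgeL S hT hi hl _ (hok i l hi hl)
      intro i' l' hi' hl' hlt
      exact ih _ (ht ▸ hlt) i' l' hi' hl' rfl
  intro i l hi hl
  exact key _ i l hi hl rfl

/-- every group element is a tree representative times a label. -/
theorem exists_repL (S : SemL N nc md2 kk M Mb B BA inv nrots rots subsC gc ι gen)
    (hgen : Subgroup.closure {g : Γ | ∃ l, l < nc ∧ g = gc l} = ⊤)
    (hcl : ∀ i l, i < N → l < nc → FactL gc ι gen N md mdcr kk M Mb B ent par plet i l) :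
    ∀ g : Γ, ∃ i, i < N ∧ ∃ c : C, g = repL gc par plet i * ι c := by
  intro g
  have hg : g ∈ Subgroup.closure {g : Γ | ∃ l, l < nc ∧ g = gc l} := by rw [hgen]; trivial
  induction hg using Subgroup.closure_induction_left with
  | one => exact ⟨0, S.N_pos, 1, by rw [repL_zero, map_one, mul_one]⟩
  | mul_left x hx y _ ih =>
    obtain ⟨l, hl, rfl⟩ := hx
    obtain ⟨i, hi, c, rfl⟩ := ih
    obtain ⟨h1, -, h3⟩ := hcl i l hi hl
    exact ⟨_, h1, _ * c, by rw [← mul_assoc, h3, mul_assoc, map_mul]⟩
  | inv_mul_cancel x hx y _ ih =>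
    obtain ⟨l, hl, rfl⟩ := hx
    obtain ⟨i, hi, c, rfl⟩ := ih
    rw [← S.gc_inv l hl]
    obtain ⟨h1, -, h3⟩ := hcl i (inv l) hi (S.inv_lt l hl)
    exact ⟨_, h1, _ * c, by rw [← mul_assoc, h3, mul_assoc, map_mul]⟩

/-- a verified face gives a relation. -/
theorem face_spec (S : SemL N nc md2 kk M Mb B BA inv nrots rots subsC gc ι gen)
    (hcl : ∀ i l, i < N → l < nc → FactL gc ι gen N md mdcr kk M Mb B ent par plet i l)
    {w : List ℕ} {b expected : ℕ} (hb : b < N) (hw : ∀ x ∈ w, x < nc)
    (hlen : w.length * Mb < M) (E : List ℕ) (hEl : E.length = kk) (hEM : ∀ d ∈ E, d < M)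
    (hE : Nat.ofDigits M E = expected)
    (hcen : ∀ g : Γ, Commute (prodw gc w) g)
    (hok : faceChk md mr md2 mdc mdcr ent w b expected = true) :
    prodw gc w = ι (dsem gen B w.length 0 E) := by
  unfold faceChk at hok
  have hoke := Nat.eq_of_beq_eq_true hok
  have hres : walkL md mr md2 mdc mdcr ent mr w b 0 ≠ 0 := by
    rw [hoke]
    show Nat.succ b + md2 * expected ≠ 0
    omega
  have IH : ∀ i l, i < N → l < nc → Nat.mod (Nat.div (ent i l) mdc) mr < mr →
      FactL gc ι gen N md mdcr kk M Mb B ent par plet i l := fun i l hi hl _ => hcl i l hi hl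
  obtain ⟨f', D, hf', hreq, hl, hbd, heq⟩ := walkL_spec IH w b 0 _ hb hw rfl hres
  have hf2 : f' + 1 < md2 := by have := S.hmd2; omega
  have hb2 : b + 1 < md2 := by have := S.hmd2; omega
  obtain ⟨hm, hd⟩ := res_decomp (a := 0 + Nat.ofDigits M D) hf2
  obtain ⟨hm', hd'⟩ := res_decomp (a := expected) hb2
  rw [hreq] at hoke
  have e1 := congrArg (fun x => Nat.mod x md2) hoke
  have e2 := congrArg (fun x => Nat.div x md2) hoke
  rw [hm] at e1
  rw [hd] at e2
  have e1' : f' + 1 = b + 1 := by rw [e1]; exact hm'
  have e2' : 0 + Nat.ofDigits M D = expected := by rw [e2]; exact hd'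
  have hfb : f' = b := by omega
  subst hfb
  have hDE : D = E := by
    apply Nat.ofDigits_inj_of_len_eq S.hM (by rw [hl, hEl])
    · intro d hd
      exact lt_of_le_of_lt (hbd d hd) hlen
    · exact hEM
    · rw [hE, ← e2', zero_add]
  rw [← hDE]
  have := (hcen (repL gc par plet f')).eq
  rw [this] at heq
  exact mul_left_cancel heq

/-- the biased digit list of `n` zero vectors plus the unit vector at `t`: positions `c, c+1, …`. -/
def unitE (B n t : ℕ) : ℕ → ℕ → List ℕ
  | 0, _ => []
  | len + 1, c => (n * B + if c = t then 1 else 0) :: unitE B n t len (c + 1)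

theorem unitE_length (B n t : ℕ) : ∀ len c, (unitE B n t len c).length = len := by
  intro len
  induction len with
  | zero => intro c; rfl
  | succ len ih => intro c; simp [unitE, ih]

theorem unitE_lt (B n t M : ℕ) (h : n * B + 1 < M) : ∀ len c, ∀ d ∈ unitE B n t len c, d < M := by
  intro len
  induction len with
  | zero => intro c d hd; simp [unitE] at hd
  | succ len ih =>
    intro c d hd
    rw [unitE, List.mem_cons] at hd
    rcases hd with rfl | hd
    · split_ifs <;> omega
    · exact ih _ d hd

theorem dsem_unitE (B n t : ℕ) : ∀ len c,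
    dsem gen B n c (unitE B n t len c) = if c ≤ t ∧ t < c + len then gen t else 1 := by
  intro len
  induction len with
  | zero =>
    intro c
    have : ¬ (c ≤ t ∧ t < c + 0) := by omega
    rw [if_neg this]
    rfl
  | succ len ih =>
    intro c
    rw [unitE, dsem, ih]
    by_cases hct : c = t
    · subst hct
      have h1 : ¬ (c + 1 ≤ c ∧ c < c + 1 + len) := by omega
      have h2 : c ≤ c ∧ c < c + (len + 1) := by omega
      rw [if_pos rfl, if_neg h1, if_pos h2]
      have : (((n * B + 1 : ℕ) : ℤ) - (n : ℤ) * (B : ℤ)) = 1 := by push_cast; ring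
      rw [this, zpow_one, mul_one]
    · rw [if_neg hct]
      have : (((n * B + 0 : ℕ) : ℤ) - (n : ℤ) * (B : ℤ)) = 0 := by push_cast; ring
      rw [this, zpow_zero, one_mul]
      by_cases h : c + 1 ≤ t ∧ t < c + 1 + len
      · have h2 : c ≤ t ∧ t < c + (len + 1) := by omega
        rw [if_pos h, if_pos h2]
      · have h2 : ¬ (c ≤ t ∧ t < c + (len + 1)) := by omega
        rw [if_neg h, if_neg h2]

theorem prodw_rotate_central {w : List ℕ} (h : ∀ g : Γ, Commute (prodw gc w) g) (k : ℕ) :
    prodw gc (w.rotate k) = prodw gc w := by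
  induction k with
  | zero => simp
  | succ k ih =>
    rw [← List.rotate_rotate]
    cases hw : w.rotate k with
    | nil => simp [hw] at ih ⊢; exact ih
    | cons x u =>
      rw [hw] at ih
      rw [List.rotate_cons_succ, List.rotate_zero, prodw_append, prodw, prodw, one_mul, ← ih, prodw]
      -- gc x * prodw u = prodw u * gc x since prodw u * gc x is central
      have hc : ∀ g : Γ, Commute (prodw gc u * gc x) g := by
        intro g
        have := h g
        rw [← ih, prodw] at this
        exact this
      have := (hc (gc x)).eq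
      -- (prodw u * gc x) * gc x = gc x * (prodw u * gc x)
      rw [mul_assoc] at this
      exact (mul_right_cancel (b := gc x) (by rw [mul_assoc, mul_assoc]; exact this.symm))

/-- decidable data conditions on one rotated relator: `p = (init, l, expected)`, `q = (ρ, k)`. -/
def rotOKL (nc nsub kk M Mb B : ℕ) (rels : List (List ℕ)) (p : List ℕ × ℕ × ℕ) (q : ℕ × ℕ) : Bool :=
  p.1.all (fun x => decide (x < nc)) && decide ((p.1.length + 1) * Mb < M) &&
    decide (nsub + q.1 < kk) && decide ((p.1.length + 1) * B + 1 < M) &&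
    (rels.getD q.1 []).rotate q.2 == p.1 ++ [p.2.1] && decide (q.1 < rels.length) &&
    p.2.2 == Nat.ofDigits M (unitE B (p.1.length + 1) (nsub + q.1) kk 0)

/-- decidable data conditions on one subgroup word triple: `p = (pre, l, post, expected)`,
`s` the index of the subgroup word. -/
def subOKL (nc kk M Mb B : ℕ) (subs : List (List ℕ)) (p : List ℕ × ℕ × List ℕ × ℕ) (s : ℕ) : Bool :=
  p.1.all (fun x => decide (x < nc)) && p.2.2.1.all (fun x => decide (x < nc)) &&
    decide ((p.1.length + p.2.2.1.length + 1) * Mb < M) && decide (s < kk) &&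
    decide ((p.1.length + p.2.2.1.length + 1) * B + 1 < M) &&
    subs.getD s [] == p.1 ++ p.2.1 :: p.2.2.1 && decide (s < subs.length) &&
    p.2.2.2 == Nat.ofDigits M (unitE B (p.1.length + p.2.2.1.length + 1) s kk 0)

/-- `SemL` from decidable data facts and the group-theoretic facts about relators. -/
theorem semL_of_data (rels subs : List (List ℕ)) (rotL : List (List ℕ × ℕ × ℕ)) (rotIdx : List (ℕ × ℕ))
    (subL : List (List ℕ × ℕ × List ℕ × ℕ)) (subIdx : List ℕ)
    (hinv_lt : ∀ l, l < nc → inv l < nc) (hgc_inv : ∀ l, l < nc → gc (inv l) = (gc l)⁻¹)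
    (hM : 1 < M) (hMb : 2 * Mb ≤ M) (hB : B < Mb)
    (hBA : BA = Nat.ofDigits M (List.replicate kk B)) (hmd2 : N < md2) (hN : 0 < N)
    (hrotsF : ∀ r, r < nrots → rots r = rotL.getD r ([], 0, 0))
    (hrotL : (List.range nrots).all (fun r =>
      rotOKL nc subs.length kk M Mb B rels (rotL.getD r ([], 0, 0)) (rotIdx.getD r (0, 0))) = true)
    (hrels : ∀ ρ, ρ < rels.length → prodw gc (rels.getD ρ []) = ι (gen (subs.length + ρ)) ∧
      ∀ g : Γ, Commute (prodw gc (rels.getD ρ [])) g)
    (hsubsF : ∀ s, (subsC s).2.1 < nc → s < subL.length ∧ subsC s = subL.getD s ([], 0, [], 0))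
    (hsubL : (List.range subL.length).all (fun s =>
      subOKL nc kk M Mb B subs (subL.getD s ([], 0, [], 0)) (subIdx.getD s 0)) = true)
    (hsubs : ∀ s, s < subs.length → prodw gc (subs.getD s []) = ι (gen s)) :
    SemL N nc md2 kk M Mb B BA inv nrots rots subsC gc ι gen := by
  refine {
    inv_lt := hinv_lt
    gc_inv := hgc_inv
    hM := hM
    hMb := hMb
    hB := hB
    hBA := hBA
    hmd2 := hmd2
    N_pos := hN
    rots_ok := ?_
    subs_ok := ?_ }
  · intro r hr
    have h1 := forall_lt_of_all hrotL r hr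
    rw [hrotsF r hr]
    set p := rotL.getD r ([], 0, 0) with hp
    set q := rotIdx.getD r (0, 0) with hq
    unfold rotOKL at h1
    simp only [Bool.and_eq_true, List.all_eq_true, decide_eq_true_eq, beq_iff_eq] at h1
    obtain ⟨⟨⟨⟨⟨⟨h2, h3⟩, h4⟩, h5⟩, h6⟩, h7⟩, h8⟩ := h1
    obtain ⟨hr1, hr2⟩ := hrels q.1 h7
    refine ⟨h2, h3, unitE B (p.1.length + 1) (subs.length + q.1) kk 0, unitE_length _ _ _ _ _,
      unitE_lt _ _ _ _ h5 _ _, h8.symm, ?_, ?_⟩
    · rw [← h6, prodw_rotate_central hr2, hr1, dsem_unitE]
      have : 0 ≤ subs.length + q.1 ∧ subs.length + q.1 < 0 + kk := by omega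
      rw [if_pos this]
    · rw [← h6, prodw_rotate_central hr2]
      exact hr2
  · intro s hs
    obtain ⟨hs1, hs2⟩ := hsubsF s hs
    have h1 := forall_lt_of_all hsubL s hs1
    rw [hs2]
    set p := subL.getD s ([], 0, [], 0) with hp
    set q := subIdx.getD s 0 with hq
    unfold subOKL at h1
    simp only [Bool.and_eq_true, List.all_eq_true, decide_eq_true_eq, beq_iff_eq] at h1
    obtain ⟨⟨⟨⟨⟨⟨⟨h2, h2'⟩, h3⟩, h4⟩, h5⟩, h6⟩, h7⟩, h8⟩ := h1
    refine ⟨h2, h2', h3, unitE B (p.1.length + p.2.2.1.length + 1) q kk 0, unitE_length _ _ _ _ _,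
      unitE_lt _ _ _ _ h5 _ _, h8.symm, ?_⟩
    rw [← h6, hsubs q h7, dsem_unitE]
    have : 0 ≤ q ∧ q < 0 + kk := by omega
    rw [if_pos this]

end sem

section loops

variable {N nc md mc mr md2 mdc mdcr kk M Mb BA : ℕ} {inv : ℕ → ℕ} {ent : ℕ → ℕ → ℕ}
  {par plet : ℕ → ℕ} {nrots : ℕ} {rots : ℕ → List ℕ × ℕ × ℕ}
  {subsC : ℕ → List ℕ × ℕ × List ℕ × ℕ}

theorem okRowL_spec (i : ℕ) : ∀ n,
    okRowL N md mc mr md2 mdc mdcr kk M Mb BA inv ent par plet nrots rots subsC i n = true →
    ∀ l, l < n →
      okEdgeL N md mc mr md2 mdc mdcr kk M Mb BA inv ent par plet nrots rots subsC i l = true := by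
  intro n
  induction n with
  | zero => intro _ l hl; omega
  | succ n ih =>
    intro h l hl
    change bIf (okEdgeL N md mc mr md2 mdc mdcr kk M Mb BA inv ent par plet nrots rots subsC i n)
      (okRowL N md mc mr md2 mdc mdcr kk M Mb BA inv ent par plet nrots rots subsC i n) false = true at h
    rw [bIf_eq_true] at h
    rcases Nat.lt_succ_iff_lt_or_eq.mp hl with h1 | h1
    · exact ih h.2 l h1
    · rw [h1]; exact h.1

theorem okRowsL_spec (lo : ℕ) : ∀ n,
    okRowsL N nc md mc mr md2 mdc mdcr kk M Mb BA inv ent par plet nrots rots subsC lo n = true →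
    ∀ i, lo ≤ i → i < lo + n → i < N → ∀ l, l < nc →
      okEdgeL N md mc mr md2 mdc mdcr kk M Mb BA inv ent par plet nrots rots subsC i l = true := by
  intro n
  induction n with
  | zero => intro _ i h1 h2; omega
  | succ n ih =>
    intro h i h1 h2 hiN l hl
    change force (Nat.add lo n) (fun i =>
      bIf (bIf (Nat.blt i N)
        (okRowL N md mc mr md2 mdc mdcr kk M Mb BA inv ent par plet nrots rots subsC i nc) true)
        (okRowsL N nc md mc mr md2 mdc mdcr kk M Mb BA inv ent par plet nrots rots subsC lo n) false)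
        = true at h
    rw [force_eq, bIf_eq_true] at h
    by_cases hi : i = lo + n
    · subst hi
      have h3 := h.1
      have hb : Nat.blt (Nat.add lo n) N = true := by simpa [Nat.blt_eq] using hiN
      rw [hb, bIf_true] at h3
      exact okRowL_spec _ nc h3 l hl
    · exact ih h.2 i h1 (by omega) hiN l hl

end loops

end Cfsg.Agent.Helper19.TCL
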