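import Cfsg.Agent.Helper19.TCR.StaticDefs

/-! Reflective checker for a coset table with labels in `ℤ/d` ("a permutation representation of a
central extension on `N * d` points"), definitions only (no Mathlib import).

Every directed edge `(i, l)` carries a packed entry `target + md * label`, `label < d`.  The letter `l`
acts on `Fin N × ZMod d` by `(i, s) ↦ (target, s + label)`. -/

set_option autoImplicit false
set_option linter.all false

namespace Cfsg.Agent.Helper19.TCM

open Cfsg.Agent.Helper19.TCS

section comp

variable (N nc md d : Nat) (inv : Nat → Nat) (ent : Nat → Nat → Nat)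

/-- walk along `w` from `f`, accumulating labels; result `f' + md * acc`. -/
noncomputable def walkM (w : List Nat) : Nat → Nat → Nat :=
  List.rec (motive := fun _ => Nat → Nat → Nat) (fun f acc => Nat.add f (Nat.mul md acc))
    (fun x _ ih f acc => force (ent f x) (fun e =>
      ih (Nat.mod e md) (Nat.add acc (Nat.div e md)))) w

theorem walkM_nil (f acc : Nat) : walkM md ent [] f acc = f + md * acc := rfl

theorem walkM_cons (x : Nat) (w : List Nat) (f acc : Nat) :
    walkM md ent (x :: w) f acc =
      walkM md ent w (Nat.mod (ent f x) md) (Nat.add acc (Nat.div (ent f x) md)) := by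
  exact force_eq (ent f x) (fun e => walkM md ent w (Nat.mod e md) (Nat.add acc (Nat.div e md)))

/-- edge check: target in range, label `< d`, and the inverse edge is consistent. -/
noncomputable def okEdgeM (i l : Nat) : Bool :=
  force (ent i l) (fun e => force (Nat.mod e md) (fun j => force (Nat.div e md) (fun a =>
    bIf (Nat.blt j N) (bIf (Nat.blt a d)
      (force (ent j (inv l)) (fun e' =>
        bIf (Nat.beq (Nat.mod e' md) i)
          (Nat.beq (Nat.mod (Nat.add a (Nat.div e' md)) d) 0) false)) false) false)))

/-- relator check at coset `i`: the walk returns to `i` with label `≡ phi` modulo `d`. -/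
noncomputable def okRelM (w : List Nat) (phi : Nat) (i : Nat) : Bool :=
  force (walkM md ent w i 0) (fun res =>
    bIf (Nat.beq (Nat.mod res md) i) (Nat.beq (Nat.mod (Nat.div res md) d) phi) false)

/-- all relators at coset `i`. -/
noncomputable def okRelsM (relsP : List (List Nat × Nat)) (i : Nat) : Bool :=
  List.rec (motive := fun _ => Bool) true
    (fun p _ ih => bIf (okRelM md d ent p.1 p.2 i) ih false) relsP

/-- all letters `< n` at coset `i`. -/
noncomputable def okLettersM (i : Nat) (n : Nat) : Bool :=
  Nat.rec (motive := fun _ => Bool) true
    (fun l ih => bIf (okEdgeM N md d inv ent i l) ih false) n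

/-- rows `lo, …, lo + n - 1` (rows `≥ N` are skipped). -/
noncomputable def okRowsM (relsP : List (List Nat × Nat)) (lo n : Nat) : Bool :=
  Nat.rec (motive := fun _ => Bool) true
    (fun k ih => force (Nat.add lo k) (fun i =>
      bIf (bIf (Nat.blt i N)
        (bIf (okLettersM N md d inv ent i nc) (okRelsM md d ent relsP i) false) true)
        ih false)) n

end comp

end Cfsg.Agent.Helper19.TCM
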