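import Mathlib
import Cfsg.Agent.Helper19.TCR.ModelDefs
import Cfsg.Agent.Helper19.Schur.Cover

/-! Soundness of the `ℤ/d`-labelled coset table checker of `ModelDefs`: a checked table gives a
central extension by `ℤ/d`, realised inside `G × Sym(Fin N × ZMod d)`. -/

set_option autoImplicit false
set_option linter.all false

namespace Cfsg.Agent.Helper19.TCM

open Cfsg.Agent.Helper19.TCS Cfsg.Agent.Helper19.Schur

universe u

section loops

variable {N nc md d : ℕ} {inv : ℕ → ℕ} {ent : ℕ → ℕ → ℕ}

theorem bIf_eq_true' {b c : Bool} : bIf b c false = true ↔ b = true ∧ c = true := by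
  cases b <;> simp

theorem okLettersM_spec (i : ℕ) : ∀ n, okLettersM N md d inv ent i n = true →
    ∀ l, l < n → okEdgeM N md d inv ent i l = true := by
  intro n
  induction n with
  | zero => intro _ l hl; omega
  | succ n ih =>
    intro h l hl
    change bIf (okEdgeM N md d inv ent i n) (okLettersM N md d inv ent i n) false = true at h
    rw [bIf_eq_true'] at h
    rcases Nat.lt_succ_iff_lt_or_eq.mp hl with h1 | h1
    · exact ih h.2 l h1
    · rw [h1]; exact h.1

theorem okRowsM_spec (relsP : List (List ℕ × ℕ)) (lo : ℕ) : ∀ n,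
    okRowsM N nc md d inv ent relsP lo n = true →
    ∀ i, lo ≤ i → i < lo + n → i < N →
      (∀ l, l < nc → okEdgeM N md d inv ent i l = true) ∧ okRelsM md d ent relsP i = true := by
  intro n
  induction n with
  | zero => intro _ i h1 h2; omega
  | succ n ih =>
    intro h i h1 h2 hiN
    change force (Nat.add lo n) (fun i =>
      bIf (bIf (Nat.blt i N)
        (bIf (okLettersM N md d inv ent i nc) (okRelsM md d ent relsP i) false) true)
        (okRowsM N nc md d inv ent relsP lo n) false) = true at h
    rw [force_eq, bIf_eq_true'] at h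
    by_cases hi : i = lo + n
    · subst hi
      have h3 := h.1
      have hb : Nat.blt (Nat.add lo n) N = true := by simpa [Nat.blt_eq] using hiN
      rw [hb, bIf_true, bIf_eq_true'] at h3
      exact ⟨okLettersM_spec _ nc h3.1, h3.2⟩
    · exact ih h.2 i h1 (by omega) hiN

theorem okRelsM_spec (i : ℕ) : ∀ relsP : List (List ℕ × ℕ), okRelsM md d ent relsP i = true →
    ∀ p ∈ relsP, okRelM md d ent p.1 p.2 i = true := by
  intro relsP
  induction relsP with
  | nil => intro _ p hp; simp at hp
  | cons q L ih =>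
    intro h p hp
    change bIf (okRelM md d ent q.1 q.2 i) (okRelsM md d ent L i) false = true at h
    rw [bIf_eq_true'] at h
    rcases List.mem_cons.mp hp with rfl | hp
    · exact h.1
    · exact ih h.2 p hp

end loops


section sem

variable {N md d : ℕ} {inv : ℕ → ℕ} {ent : ℕ → ℕ → ℕ}

/-- target of an edge. -/
def tg (md : ℕ) (ent : ℕ → ℕ → ℕ) (i l : ℕ) : ℕ := ent i l % md

/-- label of an edge. -/
def lb (md : ℕ) (ent : ℕ → ℕ → ℕ) (i l : ℕ) : ℕ := ent i l / md

theorem okEdgeM_spec {i l : ℕ} (h : okEdgeM N md d inv ent i l = true) :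
    tg md ent i l < N ∧ lb md ent i l < d ∧ tg md ent (tg md ent i l) (inv l) = i ∧
      (lb md ent i l + lb md ent (tg md ent i l) (inv l)) % d = 0 := by
  unfold okEdgeM at h
  rw [force_eq, force_eq, force_eq, bIf_eq_true', bIf_eq_true', force_eq, bIf_eq_true'] at h
  obtain ⟨h1, h2, h3, h4⟩ := h
  refine ⟨?_, ?_, ?_, ?_⟩
  · have := h1
    simp only [Nat.blt_eq] at this
    exact this
  · have := h2
    simp only [Nat.blt_eq] at this
    exact this
  · exact Nat.eq_of_beq_eq_true h3
  · exact Nat.eq_of_beq_eq_true h4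

/-- the checked properties of a table. -/
structure ModelOK (N md d : ℕ) (inv : ℕ → ℕ) (ent : ℕ → ℕ → ℕ) : Prop where
  hN : 0 < N
  hmd : N ≤ md
  hinv : ∀ l, l < 4 → inv l = inv4 l
  edge : ∀ i l, i < N → l < 4 → okEdgeM N md d inv ent i l = true

/-- the action of a letter on `Fin N × ZMod d`. -/
def step (hN : 0 < N) (md d : ℕ) (ent : ℕ → ℕ → ℕ) (l : ℕ) (p : Fin N × ZMod d) : Fin N × ZMod d :=
  (⟨tg md ent p.1 l % N, Nat.mod_lt _ hN⟩, p.2 + (lb md ent p.1 l : ZMod d))

theorem inv4_lt {l : ℕ} (hl : l < 4) : inv4 l < 4 := by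
  interval_cases l <;> simp [inv4]

theorem inv4_inv4 {l : ℕ} (hl : l < 4) : inv4 (inv4 l) = l := by
  interval_cases l <;> simp [inv4]

theorem step_inv (H : ModelOK N md d inv ent) {l : ℕ} (hl : l < 4) (p : Fin N × ZMod d) :
    step H.hN md d ent (inv4 l) (step H.hN md d ent l p) = p := by
  obtain ⟨⟨i, hi⟩, s⟩ := p
  obtain ⟨h1, h2, h3, h4⟩ := okEdgeM_spec (H.edge i l hi hl)
  rw [H.hinv l hl] at h3 h4
  unfold step
  simp only
  have e1 : tg md ent i l % N = tg md ent i l := Nat.mod_eq_of_lt h1
  apply Prod.ext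
  · apply Fin.ext
    simp only [e1, h3]
    exact Nat.mod_eq_of_lt hi
  · simp only [e1]
    have : ((lb md ent i l + lb md ent (tg md ent i l) (inv4 l) : ℕ) : ZMod d) = 0 := by
      rw [ZMod.natCast_eq_zero_iff]
      exact Nat.dvd_of_mod_eq_zero h4
    rw [add_assoc, ← Nat.cast_add, this, add_zero]

/-- the permutation of a letter. -/
def stepPerm (H : ModelOK N md d inv ent) (l : ℕ) (hl : l < 4) : Equiv.Perm (Fin N × ZMod d) where
  toFun := step H.hN md d ent l
  invFun := step H.hN md d ent (inv4 l)
  left_inv := step_inv H hl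
  right_inv := by
    intro p
    have := step_inv H (inv4_lt hl) p
    rw [inv4_inv4 hl] at this
    exact this

/-- the lift of the first generator. -/
def permA (H : ModelOK N md d inv ent) : Equiv.Perm (Fin N × ZMod d) := stepPerm H 0 (by norm_num)

/-- the lift of the second generator. -/
def permB (H : ModelOK N md d inv ent) : Equiv.Perm (Fin N × ZMod d) := stepPerm H 2 (by norm_num)

theorem gc2_perm_apply (H : ModelOK N md d inv ent) {l : ℕ} (hl : l < 4) (p : Fin N × ZMod d) :
    gc2 (permA H) (permB H) l p = step H.hN md d ent l p := by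
  interval_cases l
  · rfl
  · rfl
  · rfl
  · rfl

/-- the action of a word, letter by letter. -/
def stepW (hN : 0 < N) (md d : ℕ) (ent : ℕ → ℕ → ℕ) : List ℕ → Fin N × ZMod d → Fin N × ZMod d
  | [], p => p
  | l :: w, p => stepW hN md d ent w (step hN md d ent l p)

theorem prodw_perm_apply (H : ModelOK N md d inv ent) : ∀ (w : List ℕ), (∀ x ∈ w, x < 4) →
    ∀ p, prodw (gc2 (permA H) (permB H)) w p = stepW H.hN md d ent w p := by
  intro w
  induction w with
  | nil => intro _ p; rfl
  | cons l w ih =>
    intro hw p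
    rw [prodw, Equiv.Perm.mul_apply, gc2_perm_apply H (hw l List.mem_cons_self),
      ih (fun x hx => hw x (List.mem_cons_of_mem _ hx))]
    rfl

theorem walkM_spec (H : ModelOK N md d inv ent) : ∀ (w : List ℕ), (∀ x ∈ w, x < 4) →
    ∀ (i acc : ℕ) (hi : i < N), ∃ j a, ∃ hj : j < N, walkM md ent w i acc = j + md * (acc + a) ∧
      ∀ s : ZMod d, stepW H.hN md d ent w (⟨i, hi⟩, s) = (⟨j, hj⟩, s + (a : ZMod d)) := by
  intro w
  induction w with
  | nil =>
    intro _ i acc hi
    exact ⟨i, 0, hi, by rw [walkM_nil, add_zero], fun s => by simp [stepW]⟩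
  | cons l w ih =>
    intro hw i acc hi
    have hl : l < 4 := hw l List.mem_cons_self
    obtain ⟨h1, h2, h3, h4⟩ := okEdgeM_spec (H.edge i l hi hl)
    obtain ⟨j, a, hj, hwalk, hstep⟩ :=
      ih (fun x hx => hw x (List.mem_cons_of_mem _ hx)) (tg md ent i l) (acc + lb md ent i l) h1
    refine ⟨j, lb md ent i l + a, hj, ?_, ?_⟩
    · rw [walkM_cons]
      show walkM md ent w (tg md ent i l) (acc + lb md ent i l) = _
      rw [hwalk, add_assoc]
    · intro s
      have e1 : tg md ent i l % N = tg md ent i l := Nat.mod_eq_of_lt h1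
      have : step H.hN md d ent l (⟨i, hi⟩, s) = (⟨tg md ent i l, h1⟩, s + (lb md ent i l : ZMod d)) := by
        unfold step
        apply Prod.ext
        · apply Fin.ext; exact e1
        · rfl
      rw [stepW, this, hstep, Nat.cast_add, add_assoc]

/-- translation of the second coordinate. -/
def transl (N d : ℕ) (β : ZMod d) : Equiv.Perm (Fin N × ZMod d) :=
  Equiv.prodCongr (Equiv.refl _) (Equiv.addRight β)

theorem transl_apply (β : ZMod d) (p : Fin N × ZMod d) : transl N d β p = (p.1, p.2 + β) := rfl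

theorem transl_add (β γ : ZMod d) : transl N d (β + γ) = transl N d β * transl N d γ := by
  ext p
  · rfl
  · simp only [transl_apply, Equiv.Perm.mul_apply]
    rw [add_comm β γ, add_assoc]

theorem transl_zero : transl N d 0 = 1 := by
  ext p
  · rfl
  · simp [transl_apply]

theorem transl_comm_step (hN : 0 < N) (l : ℕ) (β : ZMod d) (p : Fin N × ZMod d) :
    transl N d β (step hN md d ent l p) = step hN md d ent l (transl N d β p) := by
  simp only [transl_apply, step]
  apply Prod.ext
  · rfl
  · simp only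
    exact add_right_comm _ _ _

/-- the relator of a checked pair acts as a translation. -/
theorem prodw_eq_transl (H : ModelOK N md d inv ent) {w : List ℕ} {phi : ℕ}
    (hw : ∀ x ∈ w, x < 4) (hrel : ∀ i, i < N → okRelM md d ent w phi i = true) :
    prodw (gc2 (permA H) (permB H)) w = transl N d (phi : ZMod d) := by
  apply Equiv.ext
  rintro ⟨⟨i, hi⟩, s⟩
  rw [prodw_perm_apply H w hw, transl_apply]
  obtain ⟨j, a, hj, hwalk, hstep⟩ := walkM_spec H w hw i 0 hi
  have h := hrel i hi
  unfold okRelM at h
  rw [force_eq, bIf_eq_true', hwalk, zero_add] at h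
  obtain ⟨h1, h2⟩ := h
  have h1' := Nat.eq_of_beq_eq_true h1
  have h2' := Nat.eq_of_beq_eq_true h2
  have hjmd : j < md := lt_of_lt_of_le hj H.hmd
  have e1 : Nat.mod (j + md * a) md = j := by
    show (j + md * a) % md = j
    rw [Nat.add_mul_mod_self_left, Nat.mod_eq_of_lt hjmd]
  have e2 : Nat.div (j + md * a) md = a := by
    show (j + md * a) / md = a
    rw [Nat.add_mul_div_left _ _ (by omega), Nat.div_eq_of_lt hjmd, zero_add]
  rw [e1] at h1'
  rw [e2] at h2'
  subst h1'
  rw [hstep s]
  have : (a : ZMod d) = (phi : ZMod d) := by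
    rw [← ZMod.natCast_mod a d]
    show ((a % d : ℕ) : ZMod d) = _
    have : a % d = phi := h2'
    rw [this]
  rw [this]

/-- translations commute with the generators. -/
theorem transl_comm_gen (H : ModelOK N md d inv ent) (β : ZMod d) {l : ℕ} (hl : l < 4) :
    Commute (transl N d β) (gc2 (permA H) (permB H) l) := by
  apply Equiv.ext
  intro p
  rw [Equiv.Perm.mul_apply, Equiv.Perm.mul_apply, gc2_perm_apply H hl, gc2_perm_apply H hl]
  exact transl_comm_step H.hN l β p

theorem transl_natCast_pow (k : ℕ) : transl N d (1 : ZMod d) ^ k = transl N d (k : ZMod d) := by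
  induction k with
  | zero => simp [transl_zero]
  | succ k ih => rw [pow_succ, ih, Nat.cast_succ, transl_add]

theorem orderOf_transl_one (hN : 0 < N) (hd : 0 < d) : orderOf (transl N d (1 : ZMod d)) = d := by
  haveI : NeZero d := ⟨hd.ne'⟩
  apply Nat.dvd_antisymm
  · apply orderOf_dvd_of_pow_eq_one
    rw [transl_natCast_pow, ZMod.natCast_self, transl_zero]
  · have h := pow_orderOf_eq_one (transl N d (1 : ZMod d))
    rw [transl_natCast_pow] at h
    have h2 := congrArg (fun f : Equiv.Perm (Fin N × ZMod d) => (f (⟨0, hN⟩, 0)).2) h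
    simp only [transl_apply, zero_add, Equiv.Perm.one_apply] at h2
    exact (ZMod.natCast_eq_zero_iff _ _).mp h2

end sem

end Cfsg.Agent.Helper19.TCM
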