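import Mathlib
import Cfsg.Agent.Helper19.TCR.Static

/-! Groups presented by generators `0, …, nc-1` (all involutions in the applications) and relators
given as lists of letters, in the convention `prodw (l :: w) = prodw w * g l`; interface with the
reflective Todd–Coxeter checker of `Core`. -/

set_option autoImplicit false
set_option linter.all false

namespace Cfsg.Agent.Helper19.TCS

/-- the free-group element of a letter. -/
def letF (nc l : ℕ) : FreeGroup (Fin nc) := if h : l < nc then FreeGroup.of ⟨l, h⟩ else 1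

/-- the free-group word of a list of letters. -/
def wordF (nc : ℕ) : List ℕ → FreeGroup (Fin nc)
  | [] => 1
  | l :: w => wordF nc w * letF nc l

def WRels (nc : ℕ) (rels : List (List ℕ)) : Set (FreeGroup (Fin nc)) :=
  {r | ∃ w ∈ rels, r = wordF nc w}

/-- the group presented by the letter-list relators `rels` on `nc` generators. -/
abbrev WG (nc : ℕ) (rels : List (List ℕ)) : Type := PresentedGroup (WRels nc rels)

variable (nc : ℕ) (rels : List (List ℕ))

/-- the generator attached to a letter. -/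
def wgc (l : ℕ) : WG nc rels := PresentedGroup.mk (WRels nc rels) (letF nc l)

theorem mk_wordF (w : List ℕ) :
    PresentedGroup.mk (WRels nc rels) (wordF nc w) = prodw (wgc nc rels) w := by
  induction w with
  | nil => simp [wordF, prodw]
  | cons l w ih => rw [wordF, prodw, map_mul, ih]; rfl

theorem wg_rels_one : ∀ w ∈ rels, prodw (wgc nc rels) w = 1 := by
  intro w hw
  rw [← mk_wordF]
  exact PresentedGroup.one_of_mem ⟨w, hw, rfl⟩

theorem wg_gen : Subgroup.closure {g : WG nc rels | ∃ l, l < nc ∧ g = wgc nc rels l} = ⊤ := by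
  rw [eq_top_iff, ← PresentedGroup.closure_range_of]
  apply Subgroup.closure_mono
  rintro _ ⟨⟨l, hl⟩, rfl⟩
  refine ⟨l, hl, ?_⟩
  unfold wgc letF
  rw [dif_pos hl]
  rfl

theorem wgc_mul_self {l : ℕ} (h : [l, l] ∈ rels) : wgc nc rels l * wgc nc rels l = 1 := by
  have := wg_rels_one nc rels _ h
  simpa [prodw] using this

theorem wgc_inv {l : ℕ} (h : [l, l] ∈ rels) : (wgc nc rels l)⁻¹ = wgc nc rels l := by
  rw [inv_eq_iff_mul_eq_one]; exact wgc_mul_self nc rels h

section hom

variable {nc rels} {Γ : Type*} [Group Γ] (f : ℕ → Γ)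

theorem lift_letF {l : ℕ} (hl : l < nc) :
    FreeGroup.lift (fun x : Fin nc => f x) (letF nc l) = f l := by
  unfold letF
  rw [dif_pos hl, FreeGroup.lift_apply_of]

theorem lift_wordF (w : List ℕ) (hw : ∀ l ∈ w, l < nc) :
    FreeGroup.lift (fun x : Fin nc => f x) (wordF nc w) = prodw f w := by
  induction w with
  | nil => simp [wordF, prodw]
  | cons l w ih =>
    rw [wordF, prodw, map_mul, ih (fun x hx => hw x (List.mem_cons_of_mem _ hx)),
      lift_letF f (hw l (List.mem_cons_self ..))]

/-- the homomorphism out of `WG nc rels` determined by images of the letters. -/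
def wgHom (hlt : ∀ w ∈ rels, ∀ l ∈ w, l < nc) (h : ∀ w ∈ rels, prodw f w = 1) : WG nc rels →* Γ :=
  PresentedGroup.toGroup (f := fun x : Fin nc => f x) (by
    rintro r ⟨w, hw, rfl⟩
    rw [lift_wordF f w (hlt w hw)]
    exact h w hw)

theorem wgHom_wgc (hlt : ∀ w ∈ rels, ∀ l ∈ w, l < nc) (h : ∀ w ∈ rels, prodw f w = 1) {l : ℕ}
    (hl : l < nc) : wgHom f hlt h (wgc nc rels l) = f l := by
  unfold wgHom wgc
  show FreeGroup.lift (fun x : Fin nc => f x) (letF nc l) = f l
  exact lift_letF f hl

theorem wgHom_prodw (hlt : ∀ w ∈ rels, ∀ l ∈ w, l < nc) (h : ∀ w ∈ rels, prodw f w = 1)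
    (w : List ℕ) (hw : ∀ l ∈ w, l < nc) :
    wgHom f hlt h (prodw (wgc nc rels) w) = prodw f w := by
  induction w with
  | nil => simp [prodw]
  | cons l w ih =>
    rw [prodw, prodw, map_mul, ih (fun x hx => hw x (List.mem_cons_of_mem _ hx)),
      wgHom_wgc f hlt h (hw l (List.mem_cons_self ..))]

theorem wgHom_range (hlt : ∀ w ∈ rels, ∀ l ∈ w, l < nc) (h : ∀ w ∈ rels, prodw f w = 1) :
    (wgHom f hlt h).range = Subgroup.closure {g : Γ | ∃ l, l < nc ∧ g = f l} := by
  rw [MonoidHom.range_eq_map, ← wg_gen nc rels, MonoidHom.map_closure]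
  congr 1
  ext g
  constructor
  · rintro ⟨_, ⟨l, hl, rfl⟩, rfl⟩
    exact ⟨l, hl, wgHom_wgc f hlt h hl⟩
  · rintro ⟨l, hl, rfl⟩
    exact ⟨_, ⟨l, hl, rfl⟩, wgHom_wgc f hlt h hl⟩

end hom

end Cfsg.Agent.Helper19.TCS
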