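import Cfsg.Agent.Helper19.TCR.StaticDefs

/-! Kernel-friendly checks that the words of a list fix every point of a coset table (so that the
table is a permutation representation); definitions only. -/

set_option autoImplicit false
set_option linter.all false

namespace Cfsg.Agent.Helper19.TCS

section perm

variable (N md : Nat) (ent : Nat → Nat → Nat)

/-- image of a point under a word. -/
noncomputable def evR (w : List Nat) : Nat → Nat :=
  List.rec (motive := fun _ => Nat → Nat) (fun f => f)
    (fun x _ ih f => force (Nat.mod (ent f x) md) ih) w

theorem evR_nil (f : Nat) : evR md ent [] f = f := rfl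

theorem evR_cons (x : Nat) (w : List Nat) (f : Nat) :
    evR md ent (x :: w) f = evR md ent w (Nat.mod (ent f x) md) :=
  force_eq (Nat.mod (ent f x) md) (evR md ent w)

/-- all the words fix the point. -/
noncomputable def fixAll (ws : List (List Nat)) (i : Nat) : Bool :=
  List.rec (motive := fun _ => Bool) true
    (fun w _ ih => bIf (Nat.beq (evR md ent w i) i) ih false) ws

/-- all the words fix the rows `lo, …, lo + n - 1` (rows `≥ N` are skipped). -/
noncomputable def fixRows (ws : List (List Nat)) (lo n : Nat) : Bool :=
  Nat.rec (motive := fun _ => Bool) true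
    (fun k ih => force (Nat.add lo k) (fun i =>
      bIf (bIf (Nat.blt i N) (fixAll md ent ws i) true) ih false)) n

/-- letters `< n` at row `i`: the target is `< N` and the letter leads back. -/
noncomputable def invRow (i : Nat) (n : Nat) : Bool :=
  Nat.rec (motive := fun _ => Bool) true
    (fun l ih => force (Nat.mod (ent i l) md) (fun j =>
      bIf (bIf (Nat.blt j N) (Nat.beq (Nat.mod (ent j l) md) i) false) ih false)) n

/-- rows `lo, …, lo + n - 1`. -/
noncomputable def invRows (nc lo n : Nat) : Bool :=
  Nat.rec (motive := fun _ => Bool) true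
    (fun k ih => force (Nat.add lo k) (fun i =>
      bIf (bIf (Nat.blt i N) (invRow N md ent i nc) true) ih false)) n

/-- the parent edge leads to the row, by a letter `< nc`: rows `lo, …, lo + n - 1`. -/
noncomputable def parRows (nc : Nat) (par plet : Nat → Nat) (lo n : Nat) : Bool :=
  Nat.rec (motive := fun _ => Bool) true
    (fun k ih => force (Nat.add lo k) (fun j =>
      bIf (bIf (Nat.blt j N) (bIf (Nat.blt 0 j)
        (bIf (Nat.blt (plet j) nc) (Nat.beq (Nat.mod (ent (par j) (plet j)) md) j) false) true) true)
        ih false)) n

variable (W : Nat → Nat)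

/-- the auxiliary column `W` is the word `w`: rows `lo, …, lo + n - 1`. -/
noncomputable def auxRows (w : List Nat) (lo n : Nat) : Bool :=
  Nat.rec (motive := fun _ => Bool) true
    (fun k ih => force (Nat.add lo k) (fun i =>
      bIf (bIf (Nat.blt i N) (Nat.beq (evR md ent w i) (W i)) true) ih false)) n

/-- `k`-fold iterate of `W`. -/
noncomputable def iterW (k : Nat) : Nat → Nat :=
  Nat.rec (motive := fun _ => Nat → Nat) (fun f => f) (fun _ ih f => force (W f) ih) k

theorem iterW_zero (f : Nat) : iterW W 0 f = f := rfl

theorem iterW_succ (k f : Nat) : iterW W (Nat.succ k) f = iterW W k (W f) :=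
  force_eq (W f) (iterW W k)

/-- `W ^ k` agrees with `T`: rows `lo, …, lo + n - 1`. -/
noncomputable def powRows (k : Nat) (T : Nat → Nat) (lo n : Nat) : Bool :=
  Nat.rec (motive := fun _ => Bool) true
    (fun j ih => force (Nat.add lo j) (fun i =>
      bIf (bIf (Nat.blt i N) (Nat.beq (iterW W k i) (T i)) true) ih false)) n

end perm

end Cfsg.Agent.Helper19.TCS
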