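import Mathlib
import Cfsg.Agent.Helper19.TCR.Static
import Cfsg.Agent.Helper19.TCR.PermDefs

/-! Soundness of the checks of `PermDefs`, and the permutation representation on the rows of a coset
table all of whose columns are involutions. -/

set_option autoImplicit false
set_option linter.all false

namespace Cfsg.Agent.Helper19.TCS

/-- the common loop over rows. -/
theorem rowsLoop_spec {N : ℕ} (P : ℕ → Bool) (lo : ℕ) : ∀ n,
    (Nat.rec (motive := fun _ => Bool) true
      (fun k ih => force (Nat.add lo k) (fun i => bIf (bIf (Nat.blt i N) (P i) true) ih false))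
      n : Bool) = true →
    ∀ i, lo ≤ i → i < lo + n → i < N → P i = true := by
  intro n
  induction n with
  | zero => intro _ i h1 h2; omega
  | succ n ih =>
    intro h i h1 h2 hiN
    change force (Nat.add lo n) (fun i => bIf (bIf (Nat.blt i N) (P i) true)
      (Nat.rec (motive := fun _ => Bool) true
        (fun k ih => force (Nat.add lo k) (fun i => bIf (bIf (Nat.blt i N) (P i) true) ih false))
        n : Bool) false) = true at h
    rw [force_eq, bIf_eq_true] at h
    by_cases hi : i = lo + n
    · subst hi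
      have h3 := h.1
      have hb : Nat.blt (Nat.add lo n) N = true := by simpa [Nat.blt_eq] using hiN
      rw [hb, bIf_true] at h3
      exact h3
    · exact ih h.2 i h1 (by omega) hiN

section specs

variable {N md : ℕ} {ent : ℕ → ℕ → ℕ}

theorem evR_eq (w : List ℕ) (i : ℕ) : evR md ent w i = evalw md ent w i := by
  induction w generalizing i with
  | nil => rfl
  | cons x w ih => rw [evR_cons, ih]; rfl

theorem fixAll_spec (ws : List (List ℕ)) (i : ℕ) (h : fixAll md ent ws i = true) :
    ∀ w ∈ ws, evalw md ent w i = i := by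
  induction ws with
  | nil => intro w hw; simp at hw
  | cons w ws ih =>
    change bIf (Nat.beq (evR md ent w i) i) (fixAll md ent ws i) false = true at h
    rw [bIf_eq_true] at h
    intro w' hw'
    rcases List.mem_cons.mp hw' with rfl | h1
    · rw [← evR_eq]; exact Nat.eq_of_beq_eq_true h.1
    · exact ih h.2 w' h1

theorem fixRows_spec (ws : List (List ℕ)) (lo n : ℕ) (h : fixRows N md ent ws lo n = true) :
    ∀ i, lo ≤ i → i < lo + n → i < N → ∀ w ∈ ws, evalw md ent w i = i := by
  intro i h1 h2 h3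
  exact fixAll_spec ws i (rowsLoop_spec (N := N) (fun i => fixAll md ent ws i) lo n h i h1 h2 h3)

theorem invRow_spec (i : ℕ) : ∀ n, invRow N md ent i n = true →
    ∀ l, l < n → ent i l % md < N ∧ ent (ent i l % md) l % md = i := by
  intro n
  induction n with
  | zero => intro _ l hl; omega
  | succ n ih =>
    intro h l hl
    change force (Nat.mod (ent i n) md) (fun j =>
      bIf (bIf (Nat.blt j N) (Nat.beq (Nat.mod (ent j n) md) i) false)
        (invRow N md ent i n) false) = true at h
    rw [force_eq, bIf_eq_true, bIf_eq_true] at h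
    rcases Nat.lt_succ_iff_lt_or_eq.mp hl with h1 | h1
    · exact ih h.2 l h1
    · subst h1
      have h4 := h.1.1
      rw [Nat.blt_eq] at h4
      exact ⟨h4, Nat.eq_of_beq_eq_true h.1.2⟩

theorem invRows_spec (nc lo n : ℕ) (h : invRows N md ent nc lo n = true) :
    ∀ i, lo ≤ i → i < lo + n → i < N → ∀ l, l < nc →
      ent i l % md < N ∧ ent (ent i l % md) l % md = i := by
  intro i h1 h2 h3
  exact invRow_spec i nc (rowsLoop_spec (N := N) (fun i => invRow N md ent i nc) lo n h i h1 h2 h3)

theorem parRows_spec (nc : ℕ) (par plet : ℕ → ℕ) (lo n : ℕ)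
    (h : parRows N md ent nc par plet lo n = true) :
    ∀ j, lo ≤ j → j < lo + n → 0 < j → j < N →
      plet j < nc ∧ ent (par j) (plet j) % md = j := by
  intro j h1 h2 h0 h3
  have := rowsLoop_spec (N := N)
    (fun j => bIf (Nat.blt 0 j)
      (bIf (Nat.blt (plet j) nc) (Nat.beq (Nat.mod (ent (par j) (plet j)) md) j) false) true)
    lo n h j h1 h2 h3
  have hb0 : Nat.blt 0 j = true := by simpa [Nat.blt_eq] using h0
  simp only [hb0, bIf_true] at this
  rw [bIf_eq_true] at this
  have h4 := this.1
  rw [Nat.blt_eq] at h4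
  exact ⟨h4, Nat.eq_of_beq_eq_true this.2⟩

variable {W : ℕ → ℕ}

theorem auxRows_spec (w : List ℕ) (lo n : ℕ) (h : auxRows N md ent W w lo n = true) :
    ∀ i, lo ≤ i → i < lo + n → i < N → evalw md ent w i = W i := by
  intro i h1 h2 h3
  have := rowsLoop_spec (N := N) (fun i => Nat.beq (evR md ent w i) (W i)) lo n h i h1 h2 h3
  rw [← evR_eq]
  exact Nat.eq_of_beq_eq_true this

theorem iterW_eq (k i : ℕ) : iterW W k i = W^[k] i := by
  induction k generalizing i with
  | zero => rfl
  | succ k ih => rw [iterW_succ, ih, Function.iterate_succ_apply]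

theorem powRows_spec (k : ℕ) (T : ℕ → ℕ) (lo n : ℕ) (h : powRows N W k T lo n = true) :
    ∀ i, lo ≤ i → i < lo + n → i < N → W^[k] i = T i := by
  intro i h1 h2 h3
  have := rowsLoop_spec (N := N) (fun i => Nat.beq (iterW W k i) (T i)) lo n h i h1 h2 h3
  rw [← iterW_eq]
  exact Nat.eq_of_beq_eq_true this

theorem evalw_append (u v : List ℕ) (i : ℕ) :
    evalw md ent (u ++ v) i = evalw md ent v (evalw md ent u i) := by
  induction u generalizing i with
  | nil => rfl
  | cons x u ih => exact ih _

/-- a power of a word, evaluated through an auxiliary column. -/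
theorem evalw_replicate (w : List ℕ) (hN : ∀ i, i < N → W i < N)
    (hW : ∀ i, i < N → evalw md ent w i = W i) (k : ℕ) :
    ∀ i, i < N → evalw md ent (List.replicate k w).flatten i = W^[k] i := by
  induction k with
  | zero => intro i _; rfl
  | succ k ih =>
    intro i hi
    rw [List.replicate_succ, List.flatten_cons, evalw_append, hW i hi, ih _ (hN i hi),
      Function.iterate_succ_apply]

end specs

/-! ### the permutation representation -/

section perm

variable {N nc md : ℕ} {ent : ℕ → ℕ → ℕ}

/-- the action of a letter on the rows (identity off the table). -/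
def sg (N nc md : ℕ) (ent : ℕ → ℕ → ℕ) (l i : ℕ) : ℕ :=
  if l < nc ∧ i < N then ent i l % md else i

variable (hinv : ∀ i, i < N → ∀ l, l < nc → ent i l % md < N ∧ ent (ent i l % md) l % md = i)

include hinv in
theorem sg_sg (l i : ℕ) : sg N nc md ent l (sg N nc md ent l i) = i := by
  unfold sg
  by_cases h : l < nc ∧ i < N
  · obtain ⟨h1, h2⟩ := hinv i h.2 l h.1
    rw [if_pos h, if_pos ⟨h.1, h1⟩, h2]
  · rw [if_neg h, if_neg h]

/-- the permutation of a letter. -/
def sigma (l : ℕ) : Equiv.Perm ℕ :=
  ⟨sg N nc md ent l, sg N nc md ent l, sg_sg hinv l, sg_sg hinv l⟩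

theorem sigma_apply (l i : ℕ) : sigma hinv l i = sg N nc md ent l i := rfl

theorem sigma_mul_self (l : ℕ) : sigma hinv l * sigma hinv l = 1 := by
  ext i
  rw [Equiv.Perm.mul_apply, sigma_apply, sigma_apply, sg_sg hinv, Equiv.Perm.one_apply]

theorem sigma_inv (l : ℕ) : (sigma hinv l)⁻¹ = sigma hinv l :=
  inv_eq_of_mul_eq_one_left (sigma_mul_self hinv l)

theorem prodw_sigma_lt (w : List ℕ) (hw : ∀ l ∈ w, l < nc) {i : ℕ} (hi : i < N) :
    prodw (sigma hinv) w i = evalw md ent w i ∧ evalw md ent w i < N := by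
  induction w generalizing i with
  | nil => exact ⟨rfl, hi⟩
  | cons l w ih =>
    have hl := hw l (List.mem_cons_self ..)
    obtain ⟨h1, -⟩ := hinv i hi l hl
    rw [prodw, Equiv.Perm.mul_apply, sigma_apply, sg, if_pos ⟨hl, hi⟩]
    exact ih (fun x hx => hw x (List.mem_cons_of_mem _ hx)) h1

theorem prodw_sigma_ge (w : List ℕ) {i : ℕ} (hi : N ≤ i) : prodw (sigma hinv) w i = i := by
  induction w with
  | nil => rfl
  | cons l w ih =>
    rw [prodw, Equiv.Perm.mul_apply, sigma_apply, sg, if_neg (by omega), ih]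

theorem prodw_sigma_eq_one {w : List ℕ} (hw : ∀ l ∈ w, l < nc)
    (hfix : ∀ i, i < N → evalw md ent w i = i) : prodw (sigma hinv) w = 1 := by
  ext i
  rw [Equiv.Perm.one_apply]
  by_cases hi : i < N
  · rw [(prodw_sigma_lt hinv w hw hi).1, hfix i hi]
  · exact prodw_sigma_ge hinv w (not_lt.mp hi)

end perm

/-! ### the index from a closed table and a permutation representation -/

section index

variable {N nc md mc mdc : ℕ} {inv : ℕ → ℕ} {ent : ℕ → ℕ → ℕ} {par plet : ℕ → ℕ}
  {nrots : ℕ} {rots : ℕ → List ℕ × ℕ} {subsC : ℕ → List ℕ × ℕ × List ℕ}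
  {G : Type*} [Group G] {H : Subgroup G} {gc : ℕ → G}

open Cfsg.Agent.Helper17.TCG in
theorem psi_nd (hinv : ∀ i, i < N → ∀ l, l < nc → ent i l % md < N ∧ ent (ent i l % md) l % md = i)
    (φ : G →* Equiv.Perm ℕ) (hH : ∀ h ∈ H, φ h 0 = 0)
    (hφ : ∀ l, l < nc → φ (gc l) = sigma hinv l)
    (hT : ∀ j, 0 < j → j < N → par j < j) (hpl : ∀ j, 0 < j → j < N → plet j < nc)
    (hpar : ∀ j, 0 < j → j < N → ent (par j) (plet j) % md = j) :
    ∀ i, i < N → psi H φ hH (nd H gc par plet i) = i := by
  intro i
  induction i using Nat.strong_induction_on with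
  | _ i ih =>
    intro hi
    rcases Nat.eq_zero_or_pos i with rfl | h0
    · rw [nd_zero, psi_mk, map_one, Equiv.Perm.one_apply]
    · have hp := hT i h0 hi
      rw [nd_step H gc hT h0 hi, psi_smul, ih _ hp (by omega), hφ _ (hpl i h0 hi), sigma_apply, sg,
        if_pos ⟨hpl i h0 hi, by omega⟩, hpar i h0 hi]

open Cfsg.Agent.Helper17.TCG in
/-- index `= N`, and the orbit map is injective. -/
theorem card_quot_eq (S : Sem N nc inv nrots rots subsC H gc)
    (hgen : Subgroup.closure {g : G | ∃ l, l < nc ∧ g = gc l} = ⊤)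
    (hcl : Closed N nc md ent par plet H gc)
    (hinv : ∀ i, i < N → ∀ l, l < nc → ent i l % md < N ∧ ent (ent i l % md) l % md = i)
    (φ : G →* Equiv.Perm ℕ) (hH : ∀ h ∈ H, φ h 0 = 0)
    (hφ : ∀ l, l < nc → φ (gc l) = sigma hinv l)
    (hT : ∀ j, 0 < j → j < N → par j < j) (hpl : ∀ j, 0 < j → j < N → plet j < nc)
    (hpar : ∀ j, 0 < j → j < N → ent (par j) (plet j) % md = j) :
    Nat.card (G ⧸ H) = N ∧ Function.Injective (psi H φ hH) :=
  card_eq H φ hH N (nd H gc par plet) (exists_nd S hgen hcl)
    (psi_nd hinv φ hH hφ hT hpl hpar)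

end index

end Cfsg.Agent.Helper19.TCS
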