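import Mathlib
import Cfsg.Agent.Helper19.TCR.Static

/-! Cheaper data checks for the reflective Todd–Coxeter checker when many rotated relators are
used: the list of rotations is compared positionally, and each rotation comes with the index of
its relator and the amount of rotation. -/

set_option autoImplicit false
set_option linter.all false

namespace Cfsg.Agent.Helper19.TCS

theorem rots_contains_of_map_eq {nrots : ℕ} {rots : ℕ → List ℕ × ℕ} {rotL : List (List ℕ × ℕ)}
    (h : (List.range nrots).map rots = rotL) :
    (List.range nrots).all (fun r => rotL.contains (rots r)) = true := by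
  rw [List.all_eq_true]
  intro r hr
  rw [List.contains_iff_mem, ← h]
  exact List.mem_map_of_mem hr

/-- indexed check of one rotation: it is the `k`-th rotation of the `ri`-th relator. -/
def rotOKI (nc : ℕ) (rels : List (List ℕ)) (p : List ℕ × ℕ) (ri k : ℕ) : Bool :=
  p.1.all (fun x => decide (x < nc)) && decide (ri < rels.length) &&
    decide (k < (rels.getD ri []).length) && ((rels.getD ri []).rotate k == p.1 ++ [p.2])

theorem rotOK_of_rotOKI {nc : ℕ} {rels : List (List ℕ)} {p : List ℕ × ℕ} {ri k : ℕ}
    (h : rotOKI nc rels p ri k = true) : rotOK nc rels p = true := by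
  unfold rotOKI at h
  rw [Bool.and_eq_true, Bool.and_eq_true, Bool.and_eq_true, decide_eq_true_eq,
    decide_eq_true_eq] at h
  obtain ⟨⟨⟨h1, h2⟩, h3⟩, h4⟩ := h
  unfold rotOK
  rw [Bool.and_eq_true, List.any_eq_true]
  refine ⟨h1, rels.getD ri [], ?_, ?_⟩
  · rw [List.getD_eq_getElem _ _ h2]; exact List.getElem_mem h2
  · rw [List.any_eq_true]
    exact ⟨k, List.mem_range.mpr h3, h4⟩

theorem rotL_all_of_indexed {nc : ℕ} {rels : List (List ℕ)} :
    ∀ (rotL : List (List ℕ × ℕ)) (idx : List (ℕ × ℕ)),
      rotL.length = idx.length →
      (List.zipWith (fun p q => rotOKI nc rels p q.1 q.2) rotL idx).all id = true →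
      rotL.all (rotOK nc rels) = true := by
  intro rotL
  induction rotL with
  | nil => intro _ _ _; rfl
  | cons p ps ih =>
    intro idx hlen h
    cases idx with
    | nil => simp at hlen
    | cons q qs =>
      rw [List.zipWith_cons_cons, List.all_cons, Bool.and_eq_true] at h
      rw [List.all_cons, Bool.and_eq_true]
      exact ⟨rotOK_of_rotOKI h.1, ih qs (by simpa using hlen) h.2⟩

end Cfsg.Agent.Helper19.TCS
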