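import Cfsg.Agent.Helper19.TCR.LabDefs

/-! A further check on a closed labelled coset table: walking a fixed word from every coset leads to
a different coset ("the word pairs up the cosets"), definitions only. -/

set_option autoImplicit false
set_option linter.all false

namespace Cfsg.Agent.Helper19.TCL

open Cfsg.Agent.Helper19.TCS

section comp

variable (N md mr md2 mdc mdcr : Nat) (ent : Nat → Nat → Nat)

/-- the walk along `w` from `i` succeeds and ends at a coset different from `i`. -/
noncomputable def pairChk (w : List Nat) (i : Nat) : Bool :=
  force (walkL md mr md2 mdc mdcr ent mr w i 0) (fun res =>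
    bIf (Nat.beq res 0) false (bIf (Nat.beq (Nat.mod res md2) (Nat.succ i)) false true))

/-- rows `lo, …, lo + n - 1` (rows `≥ N` are skipped). -/
noncomputable def pairRows (w : List Nat) (lo n : Nat) : Bool :=
  Nat.rec (motive := fun _ => Bool) true
    (fun k ih => force (Nat.add lo k) (fun i =>
      bIf (bIf (Nat.blt i N) (pairChk md mr md2 mdc mdcr ent w i) true) ih false)) n

end comp

end Cfsg.Agent.Helper19.TCL
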