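import Mathlib
import Cfsg.Agent.Helper19.TCR.Lab
import Cfsg.Agent.Helper19.TCR.PairDefs
import Cfsg.Agent.Helper19.Schur.Cover

/-! Soundness of the pairing check of `PairDefs`, and the resulting halved order bound: if a word
with trivial value moves every coset of a closed labelled table, the group has at most `N * n / 2`
elements. -/

set_option autoImplicit false
set_option linter.all false

namespace Cfsg.Agent.Helper19.TCL

open Cfsg.Agent.Helper19.TCS Cfsg.Agent.Helper19.Schur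

section loops

variable {N md mr md2 mdc mdcr : ℕ} {ent : ℕ → ℕ → ℕ}

theorem pairRows_spec (w : List ℕ) (lo : ℕ) : ∀ n,
    pairRows N md mr md2 mdc mdcr ent w lo n = true →
    ∀ i, lo ≤ i → i < lo + n → i < N → pairChk md mr md2 mdc mdcr ent w i = true := by
  intro n
  induction n with
  | zero => intro _ i h1 h2; omega
  | succ n ih =>
    intro h i h1 h2 hiN
    change force (Nat.add lo n) (fun i =>
      bIf (bIf (Nat.blt i N) (pairChk md mr md2 mdc mdcr ent w i) true)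
        (pairRows N md mr md2 mdc mdcr ent w lo n) false) = true at h
    rw [force_eq, bIf_eq_true] at h
    by_cases hi : i = lo + n
    · subst hi
      have h3 := h.1
      have hb : Nat.blt (Nat.add lo n) N = true := by simpa [Nat.blt_eq] using hiN
      rw [hb, bIf_true] at h3
      exact h3
    · exact ih h.2 i h1 (by omega) hiN

end loops

section sem

variable {Γ : Type*} [Group Γ] {C : Type*} [CommGroup C]
variable {N nc md mc mr md2 mdc mdcr kk M Mb B BA : ℕ} {inv : ℕ → ℕ} {ent : ℕ → ℕ → ℕ}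
  {par plet : ℕ → ℕ} {nrots : ℕ} {rots : ℕ → List ℕ × ℕ × ℕ}
  {subsC : ℕ → List ℕ × ℕ × List ℕ × ℕ}
  {gc : ℕ → Γ} {ι : C →* Γ} {gen : ℕ → C}

theorem pairChk_spec (S : SemL N nc md2 kk M Mb B BA inv nrots rots subsC gc ι gen)
    (hcl : ∀ i l, i < N → l < nc → FactL gc ι gen N md mdcr kk M Mb B ent par plet i l)
    {w : List ℕ} (hw : ∀ x ∈ w, x < nc) {i : ℕ} (hi : i < N)
    (h : pairChk md mr md2 mdc mdcr ent w i = true) :
    ∃ j, j < N ∧ j ≠ i ∧ ∃ c : C, prodw gc w * repL gc par plet i = repL gc par plet j * ι c := by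
  unfold pairChk at h
  rw [force_eq] at h
  have hres : walkL md mr md2 mdc mdcr ent mr w i 0 ≠ 0 := by
    intro h0
    rw [h0] at h
    simp at h
  have IH : ∀ i l, i < N → l < nc → Nat.mod (Nat.div (ent i l) mdc) mr < mr →
      FactL gc ι gen N md mdcr kk M Mb B ent par plet i l := fun i l hi hl _ => hcl i l hi hl
  obtain ⟨f', D, hf', hreq, hl, hbd, heq⟩ := walkL_spec IH w i 0 _ hi hw rfl hres
  have hf2 : f' + 1 < md2 := by have := S.hmd2; omega
  obtain ⟨hm, -⟩ := res_decomp (a := 0 + Nat.ofDigits M D) hf2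
  refine ⟨f', hf', ?_, _, heq⟩
  intro hfi
  subst hfi
  rw [hreq] at h
  have h1 : Nat.beq (f' + 1 + md2 * (0 + Nat.ofDigits M D)) 0 = false := by
    cases hb : Nat.beq (f' + 1 + md2 * (0 + Nat.ofDigits M D)) 0 with
    | false => rfl
    | true =>
      have := Nat.eq_of_beq_eq_true hb
      omega
  rw [h1, bIf_false, hm] at h
  have h2 : Nat.beq (f' + 1) (Nat.succ f') = true := by
    show Nat.beq (f' + 1) (f' + 1) = true
    exact Nat.beq_refl _
  rw [h2, bIf_true] at h
  exact Bool.false_ne_true h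

end sem

section card

variable {Γ : Type*} [Group Γ]

/-- a surjection all of whose fibres have at least two elements. -/
theorem two_mul_card_le_of_fibres {S : Type*} [Finite S] (φ : S → Γ) (hφ : Function.Surjective φ)
    (h2 : ∀ s : S, ∃ s' : S, s' ≠ s ∧ φ s' = φ s) : 2 * Nat.card Γ ≤ Nat.card S := by
  classical
  choose s1 hs1 using hφ
  choose t ht using h2
  let ψ : Γ × Fin 2 → S := fun p => if p.2 = 0 then s1 p.1 else t (s1 p.1)
  have hψ : ∀ p, φ (ψ p) = p.1 := by
    rintro ⟨γ, e⟩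
    simp only [ψ]
    split_ifs
    · exact hs1 γ
    · rw [(ht (s1 γ)).2]; exact hs1 γ
  have hinj : Function.Injective ψ := by
    rintro ⟨γ, e⟩ ⟨γ', e'⟩ h
    have h1 : γ = γ' := by
      have := congrArg φ h
      rw [hψ, hψ] at this
      exact this
    subst h1
    simp only [ψ] at h
    have hne := (ht (s1 γ)).1
    have : e = e' := by
      by_cases he : e = 0
      · by_cases he' : e' = 0
        · rw [he, he']
        · rw [if_pos he, if_neg he'] at h
          exact absurd h.symm hne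
      · by_cases he' : e' = 0
        · rw [if_neg he, if_pos he'] at h
          exact absurd h hne
        · omega
    rw [this]
  have := Nat.card_le_card_of_injective ψ hinj
  rw [Nat.card_prod, Nat.card_fin] at this
  omega

/-- the halved bound `2 * |Γ| ≤ N * n`. -/
theorem card_le_of_factL_pair (a b : Γ) (hgen : Subgroup.closure {a, b} = (⊤ : Subgroup Γ))
    {C : Type*} [CommGroup C] (ι : C →* Γ) (gen : ℕ → C)
    {N md mr md2 mdc mdcr kk M Mb B BA nrots : ℕ} {inv : ℕ → ℕ} {rots : ℕ → List ℕ × ℕ × ℕ}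
    {subsC : ℕ → List ℕ × ℕ × List ℕ × ℕ} {ent : ℕ → ℕ → ℕ} {par plet : ℕ → ℕ}
    (S : SemL N 4 md2 kk M Mb B BA inv nrots rots subsC (gc2 a b) ι gen)
    (hcl : ∀ i l, i < N → l < 4 → FactL (gc2 a b) ι gen N md mdcr kk M Mb B ent par plet i l)
    (n : ℕ) (hn : 0 < n) (ha : a ^ n = 1) (hι : ∀ c, ι c ∈ Subgroup.zpowers a)
    (wk : List ℕ) (hwk4 : ∀ x ∈ wk, x < 4) (hwk : prodw (gc2 a b) wk = 1)
    (hpair : ∀ i, i < N → pairChk md mr md2 mdc mdcr ent wk i = true) :
    Finite Γ ∧ 2 * Nat.card Γ ≤ N * n := by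
  have hgen' : Subgroup.closure {g : Γ | ∃ l, l < 4 ∧ g = gc2 a b l} = ⊤ := by
    rw [closure_gc2, hgen]
  have hex := exists_repL S hgen' hcl
  have hpow : ∀ c : C, ∃ k : Fin n, ι c = a ^ (k : ℕ) := by
    intro c
    obtain ⟨k, hk⟩ := Subgroup.mem_zpowers_iff.mp (hι c)
    have hn' : (n : ℤ) ≠ 0 := by exact_mod_cast hn.ne'
    have h0 : 0 ≤ k % (n : ℤ) := Int.emod_nonneg k hn'
    have h1 : k % (n : ℤ) < n := Int.emod_lt_of_pos k (by exact_mod_cast hn)
    have han : a ^ (n : ℤ) = 1 := by rw [zpow_natCast]; exact ha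
    have h2 : a ^ k = a ^ (k % (n : ℤ)) := zpow_eq_zpow_emod k han
    refine ⟨⟨(k % (n : ℤ)).toNat, by omega⟩, ?_⟩
    show ι c = a ^ ((k % (n : ℤ)).toNat)
    rw [← hk, h2, ← zpow_natCast, Int.toNat_of_nonneg h0]
  let f : Fin N × Fin n → Γ := fun p => repL (gc2 a b) par plet (p.1 : ℕ) * a ^ (p.2 : ℕ)
  have hf : Function.Surjective f := by
    intro g
    obtain ⟨i, hi, c, rfl⟩ := hex g
    obtain ⟨k, hk⟩ := hpow c
    exact ⟨(⟨i, hi⟩, k), by show repL (gc2 a b) par plet i * a ^ (k : ℕ) = _; rw [hk]⟩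
  have hfin : Finite Γ := Finite.of_surjective f hf
  refine ⟨hfin, ?_⟩
  have h2 : ∀ s : Fin N × Fin n, ∃ s' : Fin N × Fin n, s' ≠ s ∧ f s' = f s := by
    rintro ⟨⟨i, hi⟩, k⟩
    obtain ⟨j, hj, hji, c, hc⟩ := pairChk_spec S hcl hwk4 hi (hpair i hi)
    rw [hwk, one_mul] at hc
    obtain ⟨k1, hk1⟩ := hpow c
    -- rep i * a^k = rep j * a^k1 * a^k
    obtain ⟨k2, hk2⟩ : ∃ k2 : Fin n, a ^ (k1 : ℕ) * a ^ (k : ℕ) = a ^ (k2 : ℕ) := by
      refine ⟨⟨((k1 : ℕ) + (k : ℕ)) % n, Nat.mod_lt _ hn⟩, ?_⟩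
      show a ^ (k1 : ℕ) * a ^ (k : ℕ) = a ^ (((k1 : ℕ) + (k : ℕ)) % n)
      rw [← pow_add]
      conv_lhs => rw [← Nat.mod_add_div ((k1 : ℕ) + (k : ℕ)) n]
      rw [pow_add, pow_mul, ha, one_pow, mul_one]
    refine ⟨(⟨j, hj⟩, k2), ?_, ?_⟩
    · intro h
      have := congrArg (fun p : Fin N × Fin n => (p.1 : ℕ)) h
      exact hji this
    · show repL (gc2 a b) par plet j * a ^ (k2 : ℕ) = repL (gc2 a b) par plet i * a ^ (k : ℕ)
      rw [hc, ← hk2, hk1, mul_assoc]
  have := two_mul_card_le_of_fibres f hf h2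
  rwa [Nat.card_prod, Nat.card_fin, Nat.card_fin] at this

end card

section facesq

variable {Γ : Type*} [Group Γ]

/-- a verified face for the square of a relator symbol gives a relation of the family. -/
theorem psi_eq_one_of_face_sq {kk : ℕ} (g : Fin kk → Γ) (hcomm : ∀ i j, Commute (g i) (g j))
    (B n : ℕ) (E : List ℕ) (hE : E.length = kk) (c : Fin kk) (lamv : Fin kk → ℤ)
    (hface : iotaC g hcomm (genC kk (c : ℕ)) * iotaC g hcomm (genC kk (c : ℕ)) =
      iotaC g hcomm (dsem (genC kk) B n 0 E))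
    (hlam : lamv = digitVec kk B n E - Pi.single c 1 - Pi.single c 1) : Psi g hcomm lamv = 1 := by
  rw [hlam, Psi_sub, Psi_sub, Psi_single]
  unfold Psi
  rw [← dsem_genC _ _ _ _ hE, ← hface, iotaC_genC]
  group

end facesq

end Cfsg.Agent.Helper19.TCL
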